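import Mathlib
import Cfsg.Agent.Lib.Characters.Induction

/-!
The four generalized characters of `C₂ × A₅` vanishing off the special classes.

They are `(1 - ε) ψ` for `ψ = 4, 1 + 3, 1 + 3', 1 - 5`; their values lie in `ℤ + ℤ z`,
`z = ζ + ζ⁴`.
-/

set_option autoImplicit false
set_option linter.all false
set_option maxRecDepth 100000

namespace Cfsg.Agent.J1Order.Alt

open Cfsg.Agent.Characters
open scoped ComplexConjugate

abbrev A5 : Type := alternatingGroup (Fin 5)

abbrev K : Type := Multiplicative (ZMod 2) × A5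

/-- An element of order five. -/
def φ : A5 :=
  ⟨Equiv.swap 0 1 * Equiv.swap 1 2 * Equiv.swap 2 3 * Equiv.swap 3 4,
    by rw [Equiv.Perm.mem_alternatingGroup]; decide +kernel⟩

/-- The central involution. -/
def τ : K := (Multiplicative.ofAdd 1, 1)

/-- The subgroup of order five. -/
def C5 : Subgroup A5 where
  carrier := {x | x * φ = φ * x}
  one_mem' := by simp
  mul_mem' {a b} ha hb := by
    show a * b * φ = φ * (a * b)
    rw [mul_assoc, hb, ← mul_assoc, ha, mul_assoc]
  inv_mem' {a} ha := by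
    show a⁻¹ * φ = φ * a⁻¹
    rw [inv_mul_eq_iff_eq_mul, ← mul_assoc, ha, mul_assoc, mul_inv_cancel, mul_one]

/-- Membership in the subgroup of order ten. -/
def inD (x : A5) : Bool := decide (x * φ * x⁻¹ = φ) || decide (x * φ * x⁻¹ = φ⁻¹)

theorem inD_mul : ∀ a b : A5, inD a = true → inD b = true → inD (a * b) = true := by decide +kernel

theorem inD_inv : ∀ a : A5, inD a = true → inD a⁻¹ = true := by decide +kernel

/-- The subgroup of order ten. -/
def D10 : Subgroup A5 where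
  carrier := {x | inD x = true}
  one_mem' := show inD 1 = true by decide +kernel
  mul_mem' {a b} ha hb := inD_mul a b ha hb
  inv_mem' {a} ha := inD_inv a ha

/-- The point stabilizer. -/
def A4 : Subgroup A5 where
  carrier := {x | (x : Equiv.Perm (Fin 5)) 4 = 4}
  one_mem' := rfl
  mul_mem' {a b} ha hb := by
    show ((a * b : A5) : Equiv.Perm (Fin 5)) 4 = 4
    rw [Subgroup.coe_mul, Equiv.Perm.mul_apply, hb, ha]
  inv_mem' {a} ha := by
    show ((a⁻¹ : A5) : Equiv.Perm (Fin 5)) 4 = 4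
    rw [InvMemClass.coe_inv, Equiv.Perm.inv_eq_iff_eq, ha]

instance (x : A5) : Decidable (x ∈ C5) := inferInstanceAs (Decidable (x * φ = φ * x))
instance (x : A5) : Decidable (x ∈ D10) :=
  inferInstanceAs (Decidable (inD x = true))
instance (x : A5) : Decidable (x ∈ A4) :=
  inferInstanceAs (Decidable ((x : Equiv.Perm (Fin 5)) 4 = 4))

/-- The parity of the list of iterates of `0`. -/
def oddList (g : Equiv.Perm (Fin 5)) : Bool :=
  let l : List (Fin 5) := [0, g 0, g (g 0), g (g (g 0)), g (g (g (g 0)))]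
  (((List.range 5).flatMap fun i => (List.range 5).filter fun j =>
    decide (i < j ∧ (l.getD j 0) < (l.getD i 0))).length % 2 == 1)

/-- The class of an element: trivial, involution, order three, and the two of order five. -/
def cls (g : A5) : Fin 5 :=
  if g = 1 then 0 else if g * g = 1 then 1 else if g * g * g = 1 then 2
  else if oddList g = oddList φ then 3 else 4

/-- Representatives of the classes. -/
def rep : Fin 5 → A5
  | 0 => 1
  | 1 => ⟨Equiv.swap 0 1 * Equiv.swap 2 3, by rw [Equiv.Perm.mem_alternatingGroup]; decide +kernel⟩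
  | 2 => ⟨Equiv.swap 0 1 * Equiv.swap 1 2, by rw [Equiv.Perm.mem_alternatingGroup]; decide +kernel⟩
  | 3 => φ
  | 4 => φ ^ 2

theorem exists_conj_rep : ∀ g : A5, ∃ x : A5, g = x * rep (cls g) * x⁻¹ := by decide +kernel

/-- A class function is determined by the representatives. -/
theorem eq_of_rep {F : A5 → ℂ} (hF : Cfsg.IsClassFunction A5 F) (t : Fin 5 → ℂ)
    (h : ∀ c, F (rep c) = t c) (g : A5) : F g = t (cls g) := by
  obtain ⟨x, hx⟩ := exists_conj_rep g
  rw [congrArg F hx, hF, h]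

/-- The exponent of a power of `φ`. -/
def idx (x : A5) : ℕ :=
  if x = φ then 1 else if x = φ ^ 2 then 2 else if x = φ ^ 3 then 3 else if x = φ ^ 4 then 4 else 0

theorem idx_mul : ∀ x : A5, x ∈ C5 → ∀ y : A5, y ∈ C5 → idx (x * y) = (idx x + idx y) % 5 := by
  decide +kernel

theorem idx_lt : ∀ x : A5, idx x < 5 := by decide +kernel

/-- How often conjugates of `g` fall on `φ ^ k`. -/
def cnt (g : A5) (k : ℕ) : ℕ :=
  (Finset.univ.filter fun x : A5 => x⁻¹ * g * x ∈ C5 ∧ idx (x⁻¹ * g * x) = k).card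

def six : Fin 5 → ℤ := ![6, 2, 0, 1, 1]

def five : Fin 5 → ℤ := ![5, 1, 2, 0, 0]

def indP : Fin 5 → ℤ := ![12, 0, 0, 0, -1]

def indQ : Fin 5 → ℤ := ![0, 0, 0, 1, -1]

theorem cnt_facts : ∀ c : Fin 5, cnt (rep c) 4 = cnt (rep c) 1 ∧ cnt (rep c) 3 = cnt (rep c) 2 ∧
    5 * indP c = (cnt (rep c) 0 : ℤ) - cnt (rep c) 2 ∧
    5 * indQ c = (cnt (rep c) 1 : ℤ) - cnt (rep c) 2 ∧
    10 * six c = ((Finset.univ.filter fun x : A5 => x⁻¹ * rep c * x ∈ D10).card : ℤ) ∧
    12 * five c = ((Finset.univ.filter fun x : A5 => x⁻¹ * rep c * x ∈ A4).card : ℤ) := by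
  decide +kernel

theorem cards : (Finset.univ.filter fun x : A5 => x ∈ C5).card = 5 ∧
    (Finset.univ.filter fun x : A5 => x ∈ D10).card = 10 ∧
    (Finset.univ.filter fun x : A5 => x ∈ A4).card = 12 := by decide +kernel

/-- The fifth root of unity. -/
noncomputable def ζ : ℂ := Complex.exp (2 * Real.pi * Complex.I / 5)

theorem ζ_prim : IsPrimitiveRoot ζ 5 := by
  have := Complex.isPrimitiveRoot_exp 5 (by norm_num)
  simpa [ζ] using this

/-- `z = ζ + ζ⁴`. -/
noncomputable def z : ℂ := ζ + ζ ^ 4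

theorem ζ_sum : 1 + ζ + ζ ^ 2 + ζ ^ 3 + ζ ^ 4 = 0 := by
  have := ζ_prim.geom_sum_eq_zero (by norm_num)
  simpa [Finset.sum_range_succ] using this

theorem z_sq : z * z = 1 - z := by
  have h := ζ_prim.pow_eq_one
  have h2 := ζ_sum
  unfold z
  linear_combination (ζ ^ 3 + 2) * h + h2

theorem z_conj : conj z = z := by
  have hζ : conj ζ = ζ ^ 4 := by
    have hn : ‖ζ‖ = 1 := ζ_prim.norm'_eq_one (by norm_num)
    rw [← Complex.inv_eq_conj hn, inv_eq_of_mul_eq_one_right]
    rw [← pow_succ']; exact ζ_prim.pow_eq_one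
  unfold z
  rw [map_add, map_pow, hζ, ← pow_mul, show ζ ^ (4 * 4) = (ζ ^ 5) ^ 3 * ζ by ring,
    ζ_prim.pow_eq_one, one_pow, one_mul, add_comm]

/-- The value attached to a pair of integers. -/
noncomputable def val (a b : ℤ) : ℂ := (a : ℂ) + (b : ℂ) * z

theorem val_conj (a b : ℤ) : conj (val a b) = val a b := by
  simp [val, z_conj]

theorem val_mul (a b c d : ℤ) : val a b * val c d = val (a * c + b * d) (a * d + b * c - b * d) := by
  unfold val; push_cast; linear_combination ((b : ℂ) * d) * z_sq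

theorem isGen_ind_one (H : Subgroup A5) :
    Cfsg.IsGeneralizedCharacter A5 (Cfsg.indFun H fun _ => (1 : ℂ)) :=
  isGen_indFun H (isGen_of_isCharacter isCharacter_one)

theorem ind_one_apply (H : Subgroup A5) [DecidablePred (· ∈ H)] (g : A5) (n : ℕ) (v : ℤ)
    (hn : (Finset.univ.filter fun x : A5 => x ∈ H).card = n) (hn0 : n ≠ 0)
    (hv : (n : ℤ) * v = ((Finset.univ.filter fun x : A5 => x⁻¹ * g * x ∈ H).card : ℤ)) :
    Cfsg.indFun H (fun _ => (1 : ℂ)) g = (v : ℂ) := by
  have hc : Nat.card H = n := by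
    rw [← hn, Nat.card_eq_fintype_card, Fintype.card_of_subtype]; simp
  have hs : ∑ x : A5, Cfsg.extendByZero H (fun _ => (1 : ℂ)) (x⁻¹ * g * x) =
      ∑ x : A5, if x⁻¹ * g * x ∈ H then (1 : ℂ) else 0 := by
    refine Finset.sum_congr rfl fun x _ => ?_
    split_ifs with hx
    · exact CharTheory.IndBasic.extendByZero_of_mem H _ hx
    · exact CharTheory.IndBasic.extendByZero_of_notMem H _ hx
  unfold Cfsg.indFun
  rw [hs, Finset.sum_boole, hc, inv_mul_eq_iff_eq_mul₀ (Nat.cast_ne_zero.2 hn0)]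
  exact_mod_cast hv.symm

/-- The faithful linear character of the subgroup of order five. -/
noncomputable def lam : C5 →* ℂ where
  toFun x := ζ ^ idx x
  map_one' := by
    show ζ ^ idx (1 : A5) = 1
    rw [show idx (1 : A5) = 0 by decide +kernel, pow_zero]
  map_mul' x y := by
    show ζ ^ idx ((x : A5) * y) = ζ ^ idx (x : A5) * ζ ^ idx (y : A5)
    rw [idx_mul _ x.2 _ y.2, ← pow_add]
    exact (pow_eq_pow_mod _ ζ_prim.pow_eq_one).symm

theorem ind_lam_rep (c : Fin 5) : Cfsg.indFun C5 (⇑lam) (rep c) = val (indP c) (indQ c) := by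
  obtain ⟨h4, h3, hP, hQ, -, -⟩ := cnt_facts c
  have hc : Nat.card C5 = 5 := by
    refine Eq.trans ?_ cards.1
    rw [Nat.card_eq_fintype_card, Fintype.card_of_subtype]; simp
  have hs : ∑ x : A5, Cfsg.extendByZero C5 (⇑lam) (x⁻¹ * rep c * x) =
      ∑ k ∈ Finset.range 5, (cnt (rep c) k : ℂ) * ζ ^ k := by
    have h1 : ∀ x : A5, Cfsg.extendByZero C5 (⇑lam) (x⁻¹ * rep c * x) =
        ∑ k ∈ Finset.range 5,
          (if x⁻¹ * rep c * x ∈ C5 ∧ idx (x⁻¹ * rep c * x) = k then (1 : ℂ) else 0) * ζ ^ k := by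
      intro x
      by_cases hx : x⁻¹ * rep c * x ∈ C5
      · rw [CharTheory.IndBasic.extendByZero_of_mem C5 _ hx,
          Finset.sum_eq_single (idx (x⁻¹ * rep c * x))]
        · simp only [hx, true_and, if_true, one_mul]; rfl
        · intro k _ hk; simp [Ne.symm hk]
        · intro h; exact absurd (Finset.mem_range.2 (idx_lt _)) h
      · rw [CharTheory.IndBasic.extendByZero_of_notMem C5 _ hx]
        simp [hx]
    simp_rw [h1]
    rw [Finset.sum_comm]
    refine Finset.sum_congr rfl fun k _ => ?_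
    rw [← Finset.sum_mul, Finset.sum_boole]; rfl
  unfold Cfsg.indFun
  rw [hs, hc, inv_mul_eq_iff_eq_mul₀ (by norm_num)]
  simp only [Finset.sum_range_succ, Finset.sum_range_zero, zero_add, h4, h3]
  have hP' : (5 : ℂ) * (indP c : ℂ) = (cnt (rep c) 0 : ℂ) - cnt (rep c) 2 := by exact_mod_cast hP
  have hQ' : (5 : ℂ) * (indQ c : ℂ) = (cnt (rep c) 1 : ℂ) - cnt (rep c) 2 := by exact_mod_cast hQ
  unfold val z
  push_cast
  linear_combination (cnt (rep c) 2 : ℂ) * ζ_sum - hP' - (ζ + ζ ^ 4) * hQ'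

/-- The pair of integers of the `i`-th function at an element of `A₅`. -/
def ψi : Fin 4 → A5 → ℤ × ℤ
  | 0, g => (five (cls g) - 1, 0)
  | 1, g => (indP (cls g) - five (cls g) - six (cls g) + 3, indQ (cls g))
  | 2, g => (indP (cls g) - five (cls g) - six (cls g) + 3 - indQ (cls g), -indQ (cls g))
  | 3, g => (2 - six (cls g), 0)

/-- The second faithful linear character of the subgroup of order five. -/
noncomputable def lam2 : C5 →* ℂ where
  toFun x := lam x ^ 2
  map_one' := by simp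
  map_mul' x y := by rw [map_mul, mul_pow]

theorem ind_lam2_rep (c : Fin 5) :
    Cfsg.indFun C5 (⇑lam2) (rep c) = val (indP c - indQ c) (-indQ c) := by
  obtain ⟨h4, h3, hP, hQ, -, -⟩ := cnt_facts c
  have hc : Nat.card C5 = 5 := by
    refine Eq.trans ?_ cards.1
    rw [Nat.card_eq_fintype_card, Fintype.card_of_subtype]; simp
  have hs : ∑ x : A5, Cfsg.extendByZero C5 (⇑lam2) (x⁻¹ * rep c * x) =
      ∑ k ∈ Finset.range 5, (cnt (rep c) k : ℂ) * (ζ ^ k) ^ 2 := by
    have h1 : ∀ x : A5, Cfsg.extendByZero C5 (⇑lam2) (x⁻¹ * rep c * x) =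
        ∑ k ∈ Finset.range 5,
          (if x⁻¹ * rep c * x ∈ C5 ∧ idx (x⁻¹ * rep c * x) = k then (1 : ℂ) else 0) * (ζ ^ k) ^ 2 := by
      intro x
      by_cases hx : x⁻¹ * rep c * x ∈ C5
      · rw [CharTheory.IndBasic.extendByZero_of_mem C5 _ hx,
          Finset.sum_eq_single (idx (x⁻¹ * rep c * x))]
        · simp only [hx, true_and, if_true, one_mul]; rfl
        · intro k _ hk; simp [Ne.symm hk]
        · intro h; exact absurd (Finset.mem_range.2 (idx_lt _)) h
      · rw [CharTheory.IndBasic.extendByZero_of_notMem C5 _ hx]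
        simp [hx]
    simp_rw [h1]
    rw [Finset.sum_comm]
    refine Finset.sum_congr rfl fun k _ => ?_
    rw [← Finset.sum_mul, Finset.sum_boole]; rfl
  unfold Cfsg.indFun
  rw [hs, hc, inv_mul_eq_iff_eq_mul₀ (by norm_num)]
  simp only [Finset.sum_range_succ, Finset.sum_range_zero, zero_add, h4, h3]
  have hP' : (5 : ℂ) * (indP c : ℂ) = (cnt (rep c) 0 : ℂ) - cnt (rep c) 2 := by exact_mod_cast hP
  have hQ' : (5 : ℂ) * (indQ c : ℂ) = (cnt (rep c) 1 : ℂ) - cnt (rep c) 2 := by exact_mod_cast hQ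
  have h5 := ζ_prim.pow_eq_one
  unfold val z
  push_cast
  linear_combination ((cnt (rep c) 1 : ℂ) * ζ ^ 3 + (cnt (rep c) 2 : ℂ) * ζ) * h5 +
    (cnt (rep c) 1 : ℂ) * ζ_sum - hP' + (1 + ζ + ζ ^ 4) * hQ'

/-- The four functions on `A₅`. -/
noncomputable def ψ (i : Fin 4) (g : A5) : ℂ := val (ψi i g).1 (ψi i g).2

theorem isGen_ψ (i : Fin 4) : Cfsg.IsGeneralizedCharacter A5 (ψ i) := by
  have h5 := isGen_ind_one A4
  have h6 := isGen_ind_one D10
  have h1 : Cfsg.IsGeneralizedCharacter A5 (fun _ => (1 : ℂ)) :=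
    isGen_of_isCharacter isCharacter_one
  have hl : Cfsg.IsGeneralizedCharacter A5 (Cfsg.indFun C5 (⇑lam)) :=
    isGen_indFun C5 (isGen_of_isCharacter (isCharacter_of_isIrr (isIrrCharacter_monoidHom lam)))
  have hl2 : Cfsg.IsGeneralizedCharacter A5 (Cfsg.indFun C5 (⇑lam2)) :=
    isGen_indFun C5 (isGen_of_isCharacter (isCharacter_of_isIrr (isIrrCharacter_monoidHom lam2)))
  have e5 : ∀ g, Cfsg.indFun A4 (fun _ => (1 : ℂ)) g = (five (cls g) : ℂ) :=
    eq_of_rep (indFun_isClassFunction _ _) (fun c => (five c : ℂ)) fun c =>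
      ind_one_apply A4 _ 12 _ cards.2.2 (by norm_num) (cnt_facts c).2.2.2.2.2
  have e6 : ∀ g, Cfsg.indFun D10 (fun _ => (1 : ℂ)) g = (six (cls g) : ℂ) :=
    eq_of_rep (indFun_isClassFunction _ _) (fun c => (six c : ℂ)) fun c =>
      ind_one_apply D10 _ 10 _ cards.2.1 (by norm_num) (cnt_facts c).2.2.2.2.1
  have el := eq_of_rep (indFun_isClassFunction C5 (⇑lam)) _ ind_lam_rep
  have el2 := eq_of_rep (indFun_isClassFunction C5 (⇑lam2)) _ ind_lam2_rep
  have h2 := isGen_add h1 h1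
  fin_cases i
  · convert isGen_sub h5 h1 using 1
    funext g; simp [ψ, ψi, val, e5]
  · convert isGen_add (isGen_sub (isGen_sub hl h5) h6) (isGen_add h2 h1) using 1
    funext g; simp [ψ, ψi, val, e5, e6, el]; ring
  · convert isGen_add (isGen_sub (isGen_sub hl2 h5) h6) (isGen_add h2 h1) using 1
    funext g; simp [ψ, ψi, val, e5, e6, el2]; ring
  · convert isGen_sub h2 h6 using 1
    funext g; simp [ψ, ψi, val, e6]; ring

/-- The pair of integers of the `i`-th special function at an element of `C₂ × A₅`. -/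
def fi (i : Fin 4) (k : K) : ℤ × ℤ :=
  if k.1 = 1 then (0, 0) else (2 * (ψi i k.2).1, 2 * (ψi i k.2).2)

/-- The four special functions. -/
noncomputable def f (i : Fin 4) (k : K) : ℂ := val (fi i k).1 (fi i k).2

/-- The sign character. -/
noncomputable def sgn : Multiplicative (ZMod 2) →* ℂ where
  toFun x := if x = 1 then 1 else -1
  map_one' := by simp
  map_mul' x y := by
    have h : ∀ x : Multiplicative (ZMod 2), x = 1 ∨ x = Multiplicative.ofAdd 1 := by decide
    have h1 : Multiplicative.ofAdd (1 : ZMod 2) ≠ 1 := by decide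
    have h2 : Multiplicative.ofAdd (1 : ZMod 2) * Multiplicative.ofAdd 1 = 1 := by decide
    rcases h x with rfl | rfl <;> rcases h y with rfl | rfl <;> simp [h1, h2]

theorem isGen_f (i : Fin 4) : Cfsg.IsGeneralizedCharacter K (f i) := by
  have h1 : Cfsg.IsGeneralizedCharacter K (fun _ => (1 : ℂ)) :=
    isGen_of_isCharacter isCharacter_one
  have hs : Cfsg.IsGeneralizedCharacter K (⇑(sgn.comp (MonoidHom.fst _ A5))) :=
    isGen_of_isCharacter (isCharacter_of_isIrr (isIrrCharacter_monoidHom _))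
  have hp : Cfsg.IsGeneralizedCharacter K (ψ i ∘ MonoidHom.snd (Multiplicative (ZMod 2)) A5) :=
    isGen_comp _ (isGen_ψ i)
  convert isGen_mul (isGen_sub h1 hs) hp using 1
  funext k
  by_cases hk : k.1 = 1
  · simp [f, fi, hk, sgn, ψ, val]
  · simp [f, fi, hk, sgn, ψ, val]; ring

theorem support : ∀ (i : Fin 4) (k : K), fi i k ≠ (0, 0) → k ^ 15 = τ := by decide +kernel

/-- The inner products, times `120`. -/
def gram (i j : Fin 4) : ℤ :=
  if i = j then (if i = 0 then 240 else 480) else (if i = 0 ∨ j = 0 then 0 else 240)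

theorem gram_eq : ∀ i j : Fin 4,
    (∑ k : K, ((fi i k).1 * (fi j k).1 + (fi i k).2 * (fi j k).2)) = gram i j ∧
    (∑ k : K, ((fi i k).1 * (fi j k).2 + (fi i k).2 * (fi j k).1 - (fi i k).2 * (fi j k).2)) = 0 := by
  decide +kernel

/-- The sums, times `1`. -/
theorem sum_eq : ∀ i : Fin 4,
    (∑ k : K, (fi i k).1) = (if i = 0 then 0 else 120) ∧ (∑ k : K, (fi i k).2) = 0 := by
  decide +kernel

/-- The involutions. -/
def invs : Finset K := Finset.univ.filter fun k => k * k = 1 ∧ k ≠ 1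

def pairVal : Fin 4 → ℤ
  | 0 => 0
  | 1 => 1200
  | 2 => 1200
  | 3 => 720

theorem pairs_eq : ∀ i : Fin 4,
    (∑ p ∈ invs ×ˢ invs, (fi i (p.1 * p.2)).1) = pairVal i ∧
    (∑ p ∈ invs ×ˢ invs, (fi i (p.1 * p.2)).2) = 0 := by
  decide +kernel

theorem delta : ∀ k : K,
    4 * (fi 0 k).1 + 3 * (fi 1 k).1 + 3 * (fi 2 k).1 - 5 * (fi 3 k).1 = (if k = τ then 120 else 0) ∧
    4 * (fi 0 k).2 + 3 * (fi 1 k).2 + 3 * (fi 2 k).2 - 5 * (fi 3 k).2 = 0 := by
  decide +kernel

end Cfsg.Agent.J1Order.Alt
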