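import Mathlib
import Cfsg.Prelude.Def_SporadicB
import Cfsg.Agent.Lib.J1Order.Alt
import Cfsg.Agent.Lib.ZStar.Main

/-!
A simple group with a 2-central involution `t` whose centralizer is `C₂ × A₅`: the order is
`120` times an odd number, and all involutions of the centralizer are conjugate to `t`.
-/

set_option autoImplicit false
set_option linter.all false
set_option maxRecDepth 100000

namespace Cfsg.Agent.J1Order

open Alt

universe u

/-- The data. -/
structure Setup (G : Type u) [Group G] where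
  t : G
  ht : Cfsg.IsTwoCentralInvolution t
  e : Subgroup.centralizer ({t} : Set G) ≃* Alt.K

theorem K_card : Nat.card Alt.K = 120 := by
  rw [Nat.card_eq_fintype_card]; decide +kernel

theorem K_center : ∀ k : Alt.K, (∀ j : Alt.K, k * j = j * k) → k = 1 ∨ k = Alt.τ := by decide +kernel

theorem K_pow_fifteen : Alt.τ ^ 15 = Alt.τ ∧ Alt.τ * Alt.τ = 1 ∧ Alt.τ ≠ 1 := by decide +kernel

/-- The generators of the normal four-group of a Sylow normalizer. -/
def a1 : Alt.A5 :=
  ⟨Equiv.swap 0 1 * Equiv.swap 2 3, by rw [Equiv.Perm.mem_alternatingGroup]; decide +kernel⟩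

def a2 : Alt.A5 :=
  ⟨Equiv.swap 0 2 * Equiv.swap 1 3, by rw [Equiv.Perm.mem_alternatingGroup]; decide +kernel⟩

/-- Membership in the Sylow 2-subgroup of `C₂ × A₅`. -/
def inS (k : Alt.K) : Bool :=
  decide (k.2 = 1) || decide (k.2 = a1) || decide (k.2 = a2) || decide (k.2 = a1 * a2)

theorem inS_mul_bool : ∀ a b : Alt.K, (inS a && inS b) = true →
    (inS (a * b) && decide (a * b = b * a) && decide (a * a = 1)) = true := by decide +kernel

theorem inS_mul (a : Alt.K) (ha : inS a = true) (b : Alt.K) (hb : inS b = true) :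
    inS (a * b) = true ∧ a * b = b * a ∧ a * a = 1 := by
  simpa [and_assoc] using inS_mul_bool a b (by simp [ha, hb])

theorem inS_reps : ∀ b : Multiplicative (ZMod 2),
    inS (b, a1) = true ∧ inS (b, a2) = true ∧ inS (b, a1 * a2) = true := by decide +kernel

/-- A Sylow 2-subgroup of `C₂ × A₅`. -/
def S₀ : Subgroup Alt.K where
  carrier := {k | inS k = true}
  one_mem' := show inS 1 = true by decide +kernel
  mul_mem' {a b} ha hb := (inS_mul a ha b hb).1
  inv_mem' {a} ha := by
    show inS a⁻¹ = true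
    rw [inv_eq_of_mul_eq_one_left (inS_mul a ha a ha).2.2]; exact ha

instance (k : Alt.K) : Decidable (k ∈ S₀) := inferInstanceAs (Decidable (inS k = true))

theorem S₀_card : Nat.card S₀ = 8 := by
  have h : (Finset.univ.filter fun k : Alt.K => inS k = true).card = 8 := by decide +kernel
  refine Eq.trans ?_ h
  rw [Nat.card_eq_fintype_card, Fintype.card_of_subtype]
  intro k; simp [S₀]

/-- Every involution is conjugate to one of three representatives. -/
theorem K_invs : ∀ k : Alt.K, k * k = 1 → k ≠ 1 →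
    k = Alt.τ ∨ (∃ x : Alt.K, x * ((1 : Multiplicative (ZMod 2)), a1) * x⁻¹ = k) ∨
      ∃ x : Alt.K, x * (Multiplicative.ofAdd (1 : ZMod 2), a1) * x⁻¹ = k := by decide +kernel

theorem K_snd_one : ∀ k : Alt.K, k.2 = 1 → k = 1 ∨ k = Alt.τ := by decide +kernel

/-- The members of `S₀` other than `1` and `τ`. -/
theorem K_orbits (k : Alt.K) (hk : inS k = true) (h1 : k ≠ 1) (hτ : k ≠ Alt.τ) :
    k.2 = a1 ∨ k.2 = a2 ∨ k.2 = a1 * a2 := by
  simp only [inS, Bool.or_eq_true, decide_eq_true_eq, or_assoc] at hk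
  rcases hk with h | h | h | h
  · rcases K_snd_one k h with h' | h'
    exacts [absurd h' h1, absurd h' hτ]
  exacts [Or.inl h, Or.inr (Or.inl h), Or.inr (Or.inr h)]

theorem K_conj_fours : ∀ b : Multiplicative (ZMod 2),
    (∃ x : Alt.K, x * (b, a1) * x⁻¹ = (b, a2)) ∧
      ∃ x : Alt.K, x * (b, a1) * x⁻¹ = (b, a1 * a2) := by decide +kernel

namespace Setup

variable {G : Type u} [Group G] (H : Setup G)

abbrev C : Subgroup G := Subgroup.centralizer ({H.t} : Set G)

theorem t_mem : H.t ∈ H.C := Subgroup.mem_centralizer_singleton_iff.2 rfl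

theorem t_sq : H.t * H.t = 1 := by
  have := pow_orderOf_eq_one H.t
  rwa [H.ht.1, sq] at this

theorem t_ne : H.t ≠ 1 := fun h => by
  have := H.ht.1; rw [h, orderOf_one] at this; norm_num at this

theorem e_t : H.e ⟨H.t, H.t_mem⟩ = Alt.τ := by
  refine (K_center _ fun j => ?_).resolve_left fun h => H.t_ne ?_
  · obtain ⟨x, rfl⟩ := H.e.surjective j
    rw [← map_mul, ← map_mul]
    congr 1
    exact Subtype.ext (Subgroup.mem_centralizer_singleton_iff.1 x.2).symm
  · have := H.e.injective (h.trans (map_one H.e).symm)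
    exact congrArg Subtype.val this

/-- The element of `G` attached to an element of `C₂ × A₅`. -/
def emb : Alt.K →* G := H.C.subtype.comp H.e.symm.toMonoidHom

theorem emb_injective : Function.Injective H.emb :=
  fun a b h => H.e.symm.injective (Subtype.ext h)

theorem emb_τ : H.emb Alt.τ = H.t := by
  show ((H.e.symm Alt.τ : H.C) : G) = H.t
  rw [← H.e_t, MulEquiv.symm_apply_apply]

theorem emb_mem (k : Alt.K) : H.emb k ∈ H.C := (H.e.symm k).2

theorem emb_e (x : H.C) : H.emb (H.e x) = x := by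
  show ((H.e.symm (H.e x) : H.C) : G) = x
  rw [MulEquiv.symm_apply_apply]

theorem commute_emb (k : Alt.K) : H.emb k * H.t = H.t * H.emb k :=
  Subgroup.mem_centralizer_singleton_iff.1 (H.emb_mem k)

theorem card_C : Nat.card H.C = 120 := (Nat.card_congr H.e.toEquiv).trans K_card

variable [Finite G]

include H in
theorem card_mod : Nat.card G % 240 = 120 := by
  obtain ⟨-, P, htP, hP⟩ := H.ht
  have hPC : (P : Subgroup G) ≤ H.C := fun x hx =>
    Subgroup.mem_centralizer_singleton_iff.2 (hP x hx)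
  have h1 : Nat.card (P : Subgroup G) ∣ 120 := H.card_C ▸ Subgroup.card_dvd_of_le hPC
  have h2 : 120 ∣ Nat.card G := H.card_C ▸ H.C.card_subgroup_dvd_card
  haveI := Fact.mk Nat.prime_two
  have h3 := P.card_eq_multiplicity
  have h4 : ¬ 2 ^ 4 ∣ Nat.card G := by
    intro h
    have h5 := (Nat.prime_two.pow_dvd_iff_le_factorization Nat.card_pos.ne').1 h
    have h6 : 2 ^ 4 ∣ Nat.card (P : Subgroup G) := h3 ▸ pow_dvd_pow 2 h5
    have := h6.trans h1
    norm_num at this
  obtain ⟨m, hm⟩ := h2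
  rw [hm] at h4 ⊢
  have : m % 2 = 1 := by
    by_contra hc
    exact h4 ⟨15 * (m / 2), by omega⟩
  omega

/-- The chosen Sylow 2-subgroup. -/
theorem exists_sylow : ∃ S : Sylow 2 G, (S : Subgroup G) = S₀.map H.emb := by
  haveI := Fact.mk Nat.prime_two
  have hc : Nat.card (S₀.map H.emb) = 8 := by
    rw [Subgroup.card_map_of_injective H.emb_injective, S₀_card]
  have hg := H.card_mod
  have hv : (Nat.card G).factorization 2 = 3 := by
    refine le_antisymm ?_ ((Nat.prime_two.pow_dvd_iff_le_factorization (k := 3) (n := Nat.card G) Nat.card_pos.ne').1 (by omega))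
    by_contra hcon
    have := (Nat.prime_two.pow_dvd_iff_le_factorization (k := 4) (n := Nat.card G) Nat.card_pos.ne').2 (by omega)
    omega
  exact ⟨Sylow.ofCard (S₀.map H.emb) (by rw [hc, hv]; rfl), Sylow.coe_ofCard _ _⟩

theorem isolated_false [IsSimpleGroup G]
    (h : ∀ g : G, g * H.t * g⁻¹ * H.t = H.t * (g * H.t * g⁻¹) → g * H.t * g⁻¹ = H.t) : False := by
  have hz : Cfsg.IsIsolatedInvolution H.t := ⟨H.ht.1, fun g hg => h g hg.symm.eq⟩
  have hO : Cfsg.oddCore G = ⊥ := by
    rcases (ZStar.Main.oddCore_normal (G := G)).eq_bot_or_eq_top with h0 | h0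
    · exact h0
    · exfalso
      have h1 := InvChar.Core.odd_card_oddCore (G := G)
      rw [h0, Subgroup.card_top, Nat.odd_iff] at h1
      have := H.card_mod
      omega
  have hc := ZStar.Main.mem_center_of_isolated hO hz
  have hC : H.C = ⊤ := Subgroup.eq_top_iff' _ |>.2 fun x =>
    Subgroup.mem_centralizer_singleton_iff.2 (Subgroup.mem_center_iff.1 hc x)
  rcases (inferInstance : (Subgroup.center G).Normal).eq_bot_or_eq_top with h0 | h0
  · rw [h0, Subgroup.mem_bot] at hc; exact H.t_ne hc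
  · have habel : ∀ a b : Alt.K, a * b = b * a := fun a b => H.emb_injective (by
      rw [map_mul, map_mul]
      exact Subgroup.mem_center_iff.1 (h0 ▸ Subgroup.mem_top (H.emb b)) (H.emb a))
    exact absurd (habel ((1 : Multiplicative (ZMod 2)), a1) (1, Alt.φ)) (by decide +kernel)

theorem conj_class {b : Multiplicative (ZMod 2)} (h : IsConj H.t (H.emb (b, a1))) (v : Alt.A5)
    (hv : v = a1 ∨ v = a2 ∨ v = a1 * a2) : IsConj H.t (H.emb (b, v)) := by
  rcases hv with rfl | rfl | rfl
  · exact h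
  · obtain ⟨x, hx⟩ := (K_conj_fours b).1
    exact h.trans (isConj_iff.2 ⟨H.emb x, by rw [← hx, map_mul, map_mul, map_inv]⟩)
  · obtain ⟨x, hx⟩ := (K_conj_fours b).2
    exact h.trans (isConj_iff.2 ⟨H.emb x, by rw [← hx, map_mul, map_mul, map_inv]⟩)

theorem isConj_rep {b : Multiplicative (ZMod 2)} {v : Alt.A5} (hv : v = a1 ∨ v = a2 ∨ v = a1 * a2)
    (h : IsConj H.t (H.emb (b, v))) : IsConj H.t (H.emb (b, a1)) := by
  rcases hv with rfl | rfl | rfl
  · exact h
  · obtain ⟨x, hx⟩ := (K_conj_fours b).1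
    exact h.trans (IsConj.symm (isConj_iff.2 ⟨H.emb x, by rw [← hx, map_mul, map_mul, map_inv]⟩))
  · obtain ⟨x, hx⟩ := (K_conj_fours b).2
    exact h.trans (IsConj.symm (isConj_iff.2 ⟨H.emb x, by rw [← hx, map_mul, map_mul, map_inv]⟩))

/-- All involutions of the centralizer are conjugate to `t`. -/
theorem isConj_invol [IsSimpleGroup G] (k : Alt.K) (hk : k * k = 1) (hk1 : k ≠ 1) :
    IsConj H.t (H.emb k) := by
  classical
  haveI := Fact.mk Nat.prime_two
  obtain ⟨S, hS⟩ := H.exists_sylow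
  haveI : IsMulCommutative (S : Subgroup G) := ⟨⟨fun a b => by
    obtain ⟨x, hx, hxa⟩ := (hS.le a.2)
    obtain ⟨y, hy, hyb⟩ := (hS.le b.2)
    apply Subtype.ext
    show (a : G) * b = b * a
    rw [← hxa, ← hyb, ← map_mul, ← map_mul, (inS_mul x hx y hy).2.1]⟩⟩
  have htS : H.t ∈ (S : Subgroup G) :=
    hS.ge ⟨Alt.τ, show inS Alt.τ = true by decide +kernel, H.emb_τ⟩
  have hburn : ∀ y ∈ (S : Subgroup G), IsConj H.t y →
      ∃ n ∈ Subgroup.normalizer ((S : Subgroup G) : Set G), n * H.t * n⁻¹ = y := by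
    intro y hy hc
    obtain ⟨g, hg⟩ := isConj_iff.1 hc
    obtain ⟨n, hn, he⟩ := S.conj_eq_normalizer_conj_of_mem H.t g⁻¹ htS (by rwa [inv_inv, hg])
    exact ⟨n⁻¹, inv_mem hn, by rw [inv_inv, ← he, inv_inv, hg]⟩
  suffices hboth : ∀ b : Multiplicative (ZMod 2), IsConj H.t (H.emb (b, a1)) by
    rcases K_invs k hk hk1 with rfl | ⟨x, rfl⟩ | ⟨x, rfl⟩
    · rw [H.emb_τ]
    all_goals exact (hboth _).trans (isConj_iff.2 ⟨H.emb x, by rw [map_mul, map_mul, map_inv]⟩)
  by_contra hcon
  push Not at hcon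
  obtain ⟨b₀, hb₀⟩ := hcon
  by_cases hiso : ∀ g : G, g * H.t * g⁻¹ ∈ (S : Subgroup G) → g * H.t * g⁻¹ = H.t
  · refine H.isolated_false fun g hg => ?_
    by_contra hne
    have hmem : g * H.t * g⁻¹ ∈ H.C := Subgroup.mem_centralizer_singleton_iff.2 hg
    set k' := H.e ⟨_, hmem⟩
    have he : H.emb k' = g * H.t * g⁻¹ := H.emb_e _
    have hk' : k' * k' = 1 ∧ k' ≠ 1 := by
      refine ⟨H.emb_injective ?_, fun h => H.t_ne ?_⟩
      · rw [map_mul, map_one, he]; simp only [mul_assoc, inv_mul_cancel_left]; rw [← mul_assoc H.t H.t, H.t_sq, one_mul, mul_inv_cancel]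
      · rw [h, map_one] at he; exact conj_eq_one_iff.1 he.symm
    rcases K_invs k' hk'.1 hk'.2 with h | ⟨x, hx⟩ | ⟨x, hx⟩
    · rw [h, H.emb_τ] at he; exact hne he.symm
    all_goals
      have h1 := hiso ((H.emb x)⁻¹ * g) (by
        rw [mul_inv_rev, inv_inv, show (H.emb x)⁻¹ * g * H.t * (g⁻¹ * H.emb x) =
          (H.emb x)⁻¹ * (g * H.t * g⁻¹) * H.emb x by group, ← he, ← map_inv, ← map_mul, ← map_mul,
          ← hx]
        simp only [mul_assoc, inv_mul_cancel, mul_one, inv_mul_cancel_left]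
        exact hS.ge ⟨_, (inS_reps _).1, rfl⟩)
      apply hne
      rw [mul_inv_rev, inv_inv] at h1
      have h2 : g * H.t * g⁻¹ = H.emb x * H.t * (H.emb x)⁻¹ := by
        conv_rhs => rw [← h1]
        simp only [mul_assoc, mul_inv_cancel_left, mul_inv_cancel, mul_one]
      rw [h2, H.commute_emb x, mul_inv_cancel_right]
  push Not at hiso
  obtain ⟨g, hgS, hgt⟩ := hiso
  -- one class of three joins `t`, the other does not
  obtain ⟨k', hk'S, hk'⟩ := hS.le hgS
  have hk'1 : k' ≠ 1 := fun h => H.t_ne (conj_eq_one_iff.1 (by rw [← hk', h, map_one]))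
  have hk'τ : k' ≠ Alt.τ := fun h => hgt (by rw [← hk', h, H.emb_τ])
  have hkc : IsConj H.t (H.emb k') := hk' ▸ isConj_iff.2 ⟨g, rfl⟩
  obtain ⟨b, v, rfl, hv⟩ : ∃ b v, k' = (b, v) ∧ (v = a1 ∨ v = a2 ∨ v = a1 * a2) :=
    ⟨k'.1, k'.2, rfl, K_orbits k' hk'S hk'1 hk'τ⟩
  have hb : IsConj H.t (H.emb (b, a1)) := H.isConj_rep hv hkc
  -- the orbit of `t` under the normalizer has exactly four members
  let N := Subgroup.normalizer ((S : Subgroup G) : Set G)
  let T : Finset Alt.K := {Alt.τ, (b, a1), (b, a2), (b, a1 * a2)}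
  have horb : MulAction.orbit (ConjAct G) H.t ∩ (S : Set G) = H.emb '' (T : Set Alt.K) := by
    ext y
    constructor
    · rintro ⟨⟨c, hc⟩, hyS⟩
      have hcy : IsConj H.t y := hc ▸ isConj_iff.2 ⟨ConjAct.ofConjAct c, rfl⟩
      obtain ⟨x, hxS, rfl⟩ := hS.le hyS
      refine ⟨x, ?_, rfl⟩
      by_cases hxτ : x = Alt.τ
      · simp [T, hxτ]
      have hx1 : x ≠ 1 := fun h => H.t_ne (by
        obtain ⟨d, hd⟩ := isConj_iff.1 hcy
        rw [h, map_one] at hd; exact conj_eq_one_iff.1 hd)
      have key : ∀ b', x.1 = b' → (x.2 = a1 ∨ x.2 = a2 ∨ x.2 = a1 * a2) → b' = b := by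
        intro b' h1 h2
        by_contra hbb
        have hx' : IsConj H.t (H.emb (b', x.2)) := by rw [← h1]; exact hcy
        have := H.isConj_rep h2 hx'
        have htwo : ∀ p q r : Multiplicative (ZMod 2), p ≠ q → r = p ∨ r = q := by decide
        rcases htwo b' b b₀ hbb with h | h <;> subst h
        exacts [hb₀ this, hb₀ hb]
      obtain ⟨x1, x2⟩ := x
      have h2 := K_orbits (x1, x2) hxS hx1 hxτ
      have := key x1 rfl h2
      subst this
      rcases h2 with h2 | h2 | h2 <;> simp only at h2 <;> subst h2 <;> simp [T]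
    · rintro ⟨x, hx, rfl⟩
      simp only [T, Finset.coe_insert, Finset.coe_singleton, Set.mem_insert_iff,
        Set.mem_singleton_iff] at hx
      refine ⟨?_, hS.ge ⟨x, ?_, rfl⟩⟩
      · have : IsConj H.t (H.emb x) := by
          rcases hx with rfl | rfl | rfl | rfl
          · rw [H.emb_τ]
          exacts [hb, H.conj_class hb _ (Or.inr (Or.inl rfl)), H.conj_class hb _ (Or.inr (Or.inr rfl))]
        obtain ⟨c, hc⟩ := isConj_iff.1 this
        exact ⟨ConjAct.toConjAct c, hc⟩
      · show inS x = true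
        rcases hx with rfl | rfl | rfl | rfl
        · decide +kernel
        exacts [(inS_reps _).1, (inS_reps _).2.1, (inS_reps _).2.2]
  let φN : N →* ConjAct G := (ConjAct.toConjAct (G := G)).toMonoidHom.comp N.subtype
  letI : MulAction N G := MulAction.compHom G φN
  have horbN : MulAction.orbit N H.t = MulAction.orbit (ConjAct G) H.t ∩ (S : Set G) := by
    ext y
    constructor
    · rintro ⟨⟨n, hn⟩, rfl⟩
      exact ⟨⟨ConjAct.toConjAct n, rfl⟩, (Subgroup.mem_normalizer_iff.1 hn H.t).1 htS⟩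
    · rintro ⟨⟨c, rfl⟩, hyS⟩
      obtain ⟨n, hn, he⟩ := hburn _ hyS (isConj_iff.2 ⟨ConjAct.ofConjAct c, rfl⟩)
      exact ⟨⟨n, hn⟩, he⟩
  have h4 : Nat.card (MulAction.orbit N H.t) = 4 := by
    rw [horbN, horb, Nat.card_coe_set_eq, Set.ncard_image_of_injective _ H.emb_injective,
      Set.ncard_coe_finset]
    have : ∀ b : Multiplicative (ZMod 2),
        ({Alt.τ, (b, a1), (b, a2), (b, a1 * a2)} : Finset Alt.K).card = 4 := by decide +kernel
    exact this b
  have hstab : Nat.card (MulAction.stabilizer N H.t) % 8 = 0 := by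
    have hle : (S : Subgroup G).subgroupOf N ≤ MulAction.stabilizer N H.t := by
      intro n hn
      rw [MulAction.mem_stabilizer_iff]
      show (n : G) * H.t * (n : G)⁻¹ = H.t
      obtain ⟨x, -, hx⟩ := hS.le (Subgroup.mem_subgroupOf.1 hn)
      rw [← hx, H.commute_emb x, mul_inv_cancel_right]
    have h8 : Nat.card ((S : Subgroup G).subgroupOf N) = 8 := by
      rw [Nat.card_congr (Subgroup.subgroupOfEquivOfLe Subgroup.le_normalizer).toEquiv, hS,
        Subgroup.card_map_of_injective H.emb_injective, S₀_card]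
    have := Subgroup.card_dvd_of_le hle
    rw [h8] at this
    omega
  have hprod : Nat.card (MulAction.orbit N H.t) * Nat.card (MulAction.stabilizer N H.t) = Nat.card N := by
    rw [← Nat.card_prod, Nat.card_congr (MulAction.orbitProdStabilizerEquivGroup N H.t)]
  have hN := N.card_subgroup_dvd_card
  have hmod := H.card_mod
  rw [h4] at hprod
  have h32 : 32 ∣ Nat.card N := ⟨Nat.card (MulAction.stabilizer N H.t) / 8, by omega⟩
  have : 32 ∣ Nat.card G := Dvd.dvd.trans h32 hN
  omega

end Setup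

end Cfsg.Agent.J1Order
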