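import Mathlib
import Cfsg.Agent.Lib.J1Order.Local
import Cfsg.Agent.Lib.Characters.Counting
import Cfsg.Agent.Lib.Characters.Integrality
import Cfsg.Agent.BlockCharsA.PConjugate

/-!
The exceptional characters attached to the special classes of the centralizer: their integral
multiplicities and the numerical relations between these, the degrees and the values at `t`.
-/

set_option autoImplicit false
set_option linter.all false
set_option maxRecDepth 100000

namespace Cfsg.Agent.J1Order.Setup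

open Cfsg.Agent.Characters Cfsg.Agent.J1Order.Alt
open scoped ComplexConjugate

universe u

variable {G : Type u} [Group G] [Fintype G] (H : Setup G)

noncomputable instance fintypeC : Fintype H.C := Fintype.ofFinite _

/-- The function on the centralizer. -/
noncomputable def fC (i : Fin 4) : H.C → ℂ := fun x => Alt.f i (H.e x)

/-- The induced function. -/
noncomputable def F (i : Fin 4) : G → ℂ := Cfsg.indFun H.C (H.fC i)

theorem isGen_fC (i : Fin 4) : Cfsg.IsGeneralizedCharacter H.C (H.fC i) :=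
  isGen_comp H.e.toMonoidHom (Alt.isGen_f i)

theorem isGen_F (i : Fin 4) : Cfsg.IsGeneralizedCharacter G (H.F i) :=
  isGen_indFun _ (H.isGen_fC i)

theorem classFun_F (i : Fin 4) : Cfsg.IsClassFunction G (H.F i) :=
  isGen_isClassFunction (H.isGen_F i)

theorem special_of_ne {i : Fin 4} {k : Alt.K} (h : Alt.f i k ≠ 0) : k ^ 15 = Alt.τ :=
  Alt.support i k fun h0 => h (by simp [Alt.f, h0, Alt.val])

theorem emb_pow_fifteen {k : Alt.K} (hk : k ^ 15 = Alt.τ) : H.emb k ^ 15 = H.t := by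
  rw [← map_pow, hk, H.emb_τ]

theorem F_special (i : Fin 4) (k : Alt.K) (hk : k ^ 15 = Alt.τ) : H.F i (H.emb k) = Alt.f i k := by
  classical
  have hcl : Cfsg.IsClassFunction Alt.K (Alt.f i) := isGen_isClassFunction (Alt.isGen_f i)
  have hterm : ∀ y : G, Cfsg.extendByZero H.C (H.fC i) (y⁻¹ * H.emb k * y) =
      if y ∈ H.C then Alt.f i k else 0 := by
    intro y
    split_ifs with hy
    · obtain ⟨m, rfl⟩ : ∃ m, H.emb m = y := ⟨H.e ⟨y, hy⟩, H.emb_e _⟩
      rw [← map_inv, ← map_mul, ← map_mul, CharTheory.IndBasic.extendByZero_of_mem _ _ (H.emb_mem _)]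
      show Alt.f i (H.e ⟨H.emb (m⁻¹ * k * m), _⟩) = _
      rw [show (⟨H.emb (m⁻¹ * k * m), H.emb_mem _⟩ : H.C) = H.e.symm (m⁻¹ * k * m) from rfl,
        MulEquiv.apply_symm_apply]
      have := hcl k m⁻¹
      rwa [inv_inv] at this
    · by_cases hmem : y⁻¹ * H.emb k * y ∈ H.C
      · rw [CharTheory.IndBasic.extendByZero_of_mem _ _ hmem]
        by_contra hne
        apply hy
        have h15 := H.emb_pow_fifteen (special_of_ne hne)
        rw [H.emb_e] at h15
        replace h15 : (y⁻¹ * H.emb k * y⁻¹⁻¹) ^ 15 = H.t := by rw [inv_inv]; exact h15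
        rw [conj_pow, H.emb_pow_fifteen hk, inv_inv, mul_assoc, inv_mul_eq_iff_eq_mul] at h15
        exact Subgroup.mem_centralizer_singleton_iff.2 h15.symm
      · exact CharTheory.IndBasic.extendByZero_of_notMem _ _ hmem
  unfold F Cfsg.indFun
  simp only [hterm]
  rw [Finset.sum_ite, Finset.sum_const_zero, add_zero, Finset.sum_const, nsmul_eq_mul]
  have : (Finset.univ.filter fun y => y ∈ H.C).card = Nat.card H.C := by
    rw [Nat.card_eq_fintype_card, ← Fintype.card_subtype]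
  rw [this, inv_mul_cancel_left₀ (by rw [H.card_C]; norm_num)]

theorem inner_C (θ θ' : Alt.K → ℂ) :
    Cfsg.classInner (fun x : H.C => θ (H.e x)) (fun x : H.C => θ' (H.e x)) =
      (120 : ℂ)⁻¹ * ∑ k : Alt.K, θ k * conj (θ' k) := by
  rw [classInner_def, H.card_C]
  congr 1
  exact Fintype.sum_equiv H.e.toEquiv _ _ fun _ => rfl

theorem inner_F_F (i j : Fin 4) :
    Cfsg.classInner (H.F i) (H.F j) = (Alt.gram i j : ℂ) / 120 := by
  rw [F, frobenius_reciprocity _ _ (H.classFun_F j)]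
  have hfun : ∀ x : H.C, H.fC i x * conj (H.F j x) = H.fC i x * conj (H.fC j x) := by
    intro x
    by_cases h : H.fC i x = 0
    · simp [h]
    · have h1 : H.F j (x : G) = H.fC j x := by
        conv_lhs => rw [← H.emb_e x]
        exact H.F_special j _ (special_of_ne h)
      rw [h1]
  rw [classInner_def, Finset.sum_congr rfl (fun x _ => hfun x), ← classInner_def]
  refine (H.inner_C (Alt.f i) (Alt.f j)).trans ?_
  obtain ⟨h1, h2⟩ := Alt.gram_eq i j
  have : ∀ k, Alt.f i k * conj (Alt.f j k) =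
      (((Alt.fi i k).1 * (Alt.fi j k).1 + (Alt.fi i k).2 * (Alt.fi j k).2 : ℤ) : ℂ) +
        (((Alt.fi i k).1 * (Alt.fi j k).2 + (Alt.fi i k).2 * (Alt.fi j k).1 -
          (Alt.fi i k).2 * (Alt.fi j k).2 : ℤ) : ℂ) * Alt.z := fun k => by
    rw [Alt.f, Alt.f, Alt.val_conj, Alt.val_mul]; rfl
  rw [Finset.sum_congr rfl (fun k _ => this k), Finset.sum_add_distrib, ← Finset.sum_mul,
    ← Int.cast_sum, ← Int.cast_sum, h1, h2]
  push_cast
  ring

/-- The multiplicity of an irreducible character in an induced function. -/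
noncomputable def m (χ : Cfsg.IrrCharacter G) (i : Fin 4) : ℤ :=
  (classInner_gen_int (H.isGen_F i) (isGen_of_isCharacter (irr_isCharacter χ))).choose

theorem m_spec (χ : Cfsg.IrrCharacter G) (i : Fin 4) :
    Cfsg.classInner (H.F i) (χ : G → ℂ) = (H.m χ i : ℂ) :=
  (classInner_gen_int (H.isGen_F i) (isGen_of_isCharacter (irr_isCharacter χ))).choose_spec

theorem m_spec_C (χ : Cfsg.IrrCharacter G) (i : Fin 4) :
    (H.m χ i : ℂ) = (120 : ℂ)⁻¹ * ∑ k : Alt.K, Alt.f i k * conj ((χ : G → ℂ) (H.emb k)) := by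
  rw [← H.m_spec, F, frobenius_reciprocity _ _ (irr_isClassFunction χ),
    ← H.inner_C (Alt.f i) (fun k => (χ : G → ℂ) (H.emb k))]
  congr 1
  funext x
  rw [H.emb_e]

theorem m_triv (i : Fin 4) : H.m (trivIrr G) i = if i = 0 then 0 else 1 := by
  have h : (H.m (trivIrr G) i : ℂ) = ((if i = 0 then 0 else 1 : ℤ) : ℂ) := by
    rw [H.m_spec_C]
    simp only [trivIrr_coe, map_one, mul_one]
    obtain ⟨h1, h2⟩ := Alt.sum_eq i
    simp only [Alt.f, Alt.val, Finset.sum_add_distrib, ← Finset.sum_mul, ← Int.cast_sum, h1, h2]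
    split_ifs <;> simp
  exact_mod_cast h

/-- The value at `t`. -/
noncomputable def T (χ : Cfsg.IrrCharacter G) : ℤ :=
  4 * H.m χ 0 + 3 * H.m χ 1 + 3 * H.m χ 2 - 5 * H.m χ 3

theorem T_spec (χ : Cfsg.IrrCharacter G) : (χ : G → ℂ) H.t = (H.T χ : ℂ) := by
  have h : (H.T χ : ℂ) = conj ((χ : G → ℂ) H.t) := by
    unfold T
    push_cast
    simp only [H.m_spec_C]
    rw [show (4 : ℂ) * ((120 : ℂ)⁻¹ * ∑ k, Alt.f 0 k * conj ((χ : G → ℂ) (H.emb k))) +
        3 * ((120 : ℂ)⁻¹ * ∑ k, Alt.f 1 k * conj ((χ : G → ℂ) (H.emb k))) +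
        3 * ((120 : ℂ)⁻¹ * ∑ k, Alt.f 2 k * conj ((χ : G → ℂ) (H.emb k))) -
        5 * ((120 : ℂ)⁻¹ * ∑ k, Alt.f 3 k * conj ((χ : G → ℂ) (H.emb k))) =
        (120 : ℂ)⁻¹ * ∑ k, (4 * Alt.f 0 k + 3 * Alt.f 1 k + 3 * Alt.f 2 k - 5 * Alt.f 3 k) *
          conj ((χ : G → ℂ) (H.emb k)) by
      simp only [add_mul, sub_mul, Finset.sum_add_distrib, Finset.sum_sub_distrib,
        mul_assoc, ← Finset.mul_sum]
      ring]
    have hd : ∀ k, 4 * Alt.f 0 k + 3 * Alt.f 1 k + 3 * Alt.f 2 k - 5 * Alt.f 3 k =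
        if k = Alt.τ then (120 : ℂ) else 0 := by
      intro k
      obtain ⟨h1, h2⟩ := Alt.delta k
      have h1' := congrArg (Int.cast : ℤ → ℂ) h1
      have h2' := congrArg (Int.cast : ℤ → ℂ) h2
      push_cast at h1' h2'
      simp only [Alt.f, Alt.val]
      split_ifs at h1' ⊢ <;> linear_combination h1' + Alt.z * h2'
    simp only [hd, ite_mul, zero_mul, Finset.sum_ite_eq', Finset.mem_univ, if_true, H.emb_τ]
    ring
  have := congrArg conj h
  simpa using this.symm

/-- The degree. -/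
noncomputable def deg (χ : Cfsg.IrrCharacter G) : ℕ := (irr_degree_dvd_card χ.2).choose

theorem deg_spec (χ : Cfsg.IrrCharacter G) :
    (χ : G → ℂ) 1 = (deg χ : ℂ) ∧ 0 < deg χ ∧ deg χ ∣ Nat.card G :=
  (irr_degree_dvd_card χ.2).choose_spec

variable [Fintype (Cfsg.IrrCharacter G)]

theorem F_eq_sum (i : Fin 4) (x : G) :
    H.F i x = ∑ χ : Cfsg.IrrCharacter G, (H.m χ i : ℂ) * (χ : G → ℂ) x := by
  conv_lhs => rw [classFun_eq_sum (H.classFun_F i)]
  simp [Finset.sum_apply, H.m_spec]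

theorem sum_gram (i j : Fin 4) :
    (∑ χ : Cfsg.IrrCharacter G, H.m χ i * H.m χ j) * 120 = Alt.gram i j := by
  have h := H.inner_F_F i j
  rw [classInner_eq_sum _ (H.classFun_F i)] at h
  have : ∀ χ : Cfsg.IrrCharacter G, Cfsg.classInner (χ : G → ℂ) (H.F j) = (H.m χ j : ℂ) := fun χ => by
    rw [classInner_conj_symm, H.m_spec]; simp
  simp only [H.m_spec, this] at h
  rw [eq_div_iff (by norm_num)] at h
  exact_mod_cast h

theorem sum_deg (i : Fin 4) : ∑ χ : Cfsg.IrrCharacter G, H.m χ i * (deg χ : ℤ) = 0 := by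
  have h := H.F_eq_sum i 1
  rw [F, indFun_one] at h
  have h0 : H.fC i 1 = 0 := by simp [fC, Alt.f, Alt.fi, Alt.val]
  simp only [h0, mul_zero, (deg_spec _).1] at h
  exact_mod_cast h.symm

theorem fiber_card [IsSimpleGroup G] {p : Alt.K} (hp : p ∈ Alt.invs) [DecidableEq G] :
    (Finset.univ.filter fun u : G => u * H.t * u⁻¹ = H.emb p).card = 120 := by
  obtain ⟨hp2, hp1⟩ := (Finset.mem_filter.1 hp).2
  obtain ⟨c, hc⟩ := isConj_iff.1 (H.isConj_invol p hp2 hp1)
  rw [← H.card_C, Nat.card_eq_fintype_card, ← Fintype.card_subtype]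
  have key : ∀ u : G, u * H.t * u⁻¹ = H.emb p ↔ c⁻¹ * u ∈ H.C := fun u => by
    rw [Subgroup.mem_centralizer_singleton_iff, ← hc]
    constructor
    · intro h
      calc c⁻¹ * u * H.t = c⁻¹ * (u * H.t * u⁻¹) * u := by group
        _ = _ := by rw [h]; group
    · intro h
      calc u * H.t * u⁻¹ = c * (c⁻¹ * u * H.t) * u⁻¹ := by group
        _ = _ := by rw [h]; group
  exact Fintype.card_congr
    { toFun := fun u => ⟨c⁻¹ * u, (key u).1 u.2⟩
      invFun := fun x => ⟨c * x, (key _).2 (by simp)⟩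
      left_inv := fun u => by simp
      right_inv := fun x => by simp }

/-- Sums over the conjugates of `t` of functions living on the involutions of the centralizer. -/
theorem sum_class [IsSimpleGroup G] (ψ : G → ℂ)
    (h : ∀ u : G, ψ (u * H.t * u⁻¹) ≠ 0 → u * H.t * u⁻¹ ∈ H.C) :
    ∑ u : G, ψ (u * H.t * u⁻¹) = 120 * ∑ p ∈ Alt.invs, ψ (H.emb p) := by
  classical
  set U := Finset.univ.filter fun u : G => u * H.t * u⁻¹ ∈ H.C
  have h1 : ∑ u : G, ψ (u * H.t * u⁻¹) = ∑ u ∈ U, ψ (u * H.t * u⁻¹) :=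
    (Finset.sum_filter_of_ne fun u _ hu => h u hu).symm
  let g : G → Alt.K := fun u => if hu : u * H.t * u⁻¹ ∈ H.C then H.e ⟨_, hu⟩ else 1
  have hg : ∀ u ∈ U, H.emb (g u) = u * H.t * u⁻¹ := fun u hu => by
    simp only [g, dif_pos (Finset.mem_filter.1 hu).2]
    exact H.emb_e _
  have hmaps : ∀ u ∈ U, g u ∈ Alt.invs := fun u hu => by
    have he := hg u hu
    refine Finset.mem_filter.2 ⟨Finset.mem_univ _, H.emb_injective ?_, fun h0 => H.t_ne ?_⟩
    · rw [map_mul, map_one, he,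
        show u * H.t * u⁻¹ * (u * H.t * u⁻¹) = u * (H.t * H.t) * u⁻¹ by group, H.t_sq]
      simp
    · rw [h0, map_one] at he; exact conj_eq_one_iff.1 he.symm
  rw [h1, ← Finset.sum_fiberwise_of_maps_to hmaps, Finset.mul_sum]
  refine Finset.sum_congr rfl fun p hp => ?_
  have hfilter : (U.filter fun u => g u = p) =
      Finset.univ.filter fun u : G => u * H.t * u⁻¹ = H.emb p := by
    ext u
    simp only [Finset.mem_filter, Finset.mem_univ, true_and]
    constructor
    · rintro ⟨hu, rfl⟩; exact (hg u hu).symm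
    · intro hu
      have hU : u ∈ U := Finset.mem_filter.2 ⟨Finset.mem_univ _, hu ▸ H.emb_mem p⟩
      exact ⟨hU, H.emb_injective ((hg u hU).trans hu)⟩
  rw [hfilter]
  rw [Finset.sum_congr rfl (g := fun _ => ψ (H.emb p)) (fun u hu => by rw [(Finset.mem_filter.1 hu).2]),
    Finset.sum_const, H.fiber_card hp, nsmul_eq_mul]
  norm_num

theorem sum_recip [IsSimpleGroup G] (i : Fin 4) :
    (Nat.card G : ℚ) * ∑ χ : Cfsg.IrrCharacter G,
        (H.m χ i : ℚ) * (H.T χ : ℚ) ^ 2 / (deg χ : ℚ) = 120 * (Alt.pairVal i : ℚ) := by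
  classical
  let E : G → ℂ := Cfsg.extendByZero H.C (H.fC i)
  let c : G → G := fun u => u * H.t * u⁻¹
  have hL : ∑ x : G, H.F i (H.t * (x * H.t * x⁻¹)) =
      (Nat.card G : ℂ) * ∑ χ : Cfsg.IrrCharacter G, (H.m χ i : ℂ) * (H.T χ : ℂ) ^ 2 / (deg χ : ℂ) := by
    simp only [H.F_eq_sum i]
    rw [Finset.sum_comm, Finset.mul_sum]
    refine Finset.sum_congr rfl fun χ _ => ?_
    rw [← Finset.mul_sum, sum_mul_conjugates χ.2, H.T_spec, (deg_spec χ).1]
    ring
  have hsupp : ∀ u w : G, E (c u * c w) ≠ 0 → c u ∈ H.C ∧ c w ∈ H.C := by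
    intro u w hne
    by_cases hmem : c u * c w ∈ H.C
    · simp only [E, CharTheory.IndBasic.extendByZero_of_mem _ _ hmem] at hne
      have h15 := H.emb_pow_fifteen (special_of_ne hne)
      rw [H.emb_e] at h15
      have hinv : ∀ v, (c v)⁻¹ = c v := fun v => by
        simp only [c, mul_inv_rev, inv_inv, inv_eq_of_mul_eq_one_left H.t_sq, mul_assoc]
      have hconj : c u * (c u * c w) * (c u)⁻¹ = (c u * c w)⁻¹ := by
        have hrev : (c u * c w)⁻¹ = (c w)⁻¹ * (c u)⁻¹ := mul_inv_rev _ _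
        rw [hrev, hinv u, hinv w]
        calc c u * (c u * c w) * c u = (c u * (c u)) * (c w * c u) := by group
          _ = c u * (c u)⁻¹ * (c w * c u) := by rw [hinv u]
          _ = c w * c u := by group
      have h2 := congrArg (· ^ 15) hconj
      simp only [conj_pow, inv_pow, h15] at h2
      rw [inv_eq_of_mul_eq_one_left H.t_sq, mul_inv_eq_iff_eq_mul] at h2
      have hu : c u ∈ H.C := Subgroup.mem_centralizer_singleton_iff.2 h2
      exact ⟨hu, (H.C.mul_mem_cancel_left hu).1 hmem⟩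
    · exact absurd (CharTheory.IndBasic.extendByZero_of_notMem _ _ hmem) hne
  have hR : ∑ x : G, H.F i (H.t * (x * H.t * x⁻¹)) = 120 * (Alt.pairVal i : ℂ) := by
    have hF : ∀ x, H.F i (H.t * (x * H.t * x⁻¹)) =
        (120 : ℂ)⁻¹ * ∑ y : G, E (c y * c (y * x)) := fun x => by
      unfold F Cfsg.indFun
      rw [H.card_C]
      congr 1
      refine Fintype.sum_equiv (Equiv.inv G) _ _ fun y => ?_
      simp only [E, c, Equiv.inv_apply]
      congr 1
      group
    simp only [hF, ← Finset.mul_sum]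
    rw [Finset.sum_comm]
    have hy : ∀ y : G, ∑ x : G, E (c y * c (y * x)) = ∑ w : G, E (c y * c w) := fun y =>
      Fintype.sum_equiv (Equiv.mulLeft y) _ _ fun x => rfl
    have hw : ∀ y : G, ∑ w : G, E (c y * c w) = 120 * ∑ q ∈ Alt.invs, E (c y * H.emb q) := fun y =>
      H.sum_class (fun z => E (c y * z)) fun w hw => (hsupp y w hw).2
    simp only [hy, hw, ← Finset.mul_sum]
    rw [H.sum_class (fun z => ∑ q ∈ Alt.invs, E (z * H.emb q)) (by
      intro u hu
      obtain ⟨q, hq, hne⟩ := Finset.exists_ne_zero_of_sum_ne_zero hu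
      obtain ⟨hq2, hq1⟩ := (Finset.mem_filter.1 hq).2
      obtain ⟨w, hw⟩ := isConj_iff.1 (H.isConj_invol q hq2 hq1)
      exact (hsupp u w (by simpa only [c, hw] using hne)).1)]
    have hE : ∀ p q, E (H.emb p * H.emb q) = Alt.f i (p * q) := fun p q => by
      rw [← map_mul]
      simp only [E, CharTheory.IndBasic.extendByZero_of_mem _ _ (H.emb_mem _), fC]
      congr 1
      exact H.e.apply_symm_apply _
    simp only [hE]
    rw [← Finset.sum_product']
    obtain ⟨h1, h2⟩ := Alt.pairs_eq i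
    simp only [Alt.f, Alt.val, Finset.sum_add_distrib, ← Finset.sum_mul, ← Int.cast_sum, h1, h2]
    push_cast
    ring
  rw [hL] at hR
  have h := congrArg Complex.re hR
  have key : ((((Nat.card G : ℚ) * ∑ χ : Cfsg.IrrCharacter G,
      (H.m χ i : ℚ) * (H.T χ : ℚ) ^ 2 / (deg χ : ℚ)) : ℚ) : ℂ) = ((120 * (Alt.pairVal i : ℚ) : ℚ) : ℂ) := by
    push_cast
    exact hR
  exact_mod_cast key

/-- Congruence and positivity at a Sylow 2-subgroup. -/
theorem eight_dvd [IsSimpleGroup G] (χ : Cfsg.IrrCharacter G) :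
    ∃ k : ℕ, (deg χ : ℤ) + 7 * H.T χ = 8 * k := by
  classical
  let S := S₀.map H.emb
  obtain ⟨k, hk⟩ := classInner_char_nat
    (isCharacter_restrict S (irr_isCharacter χ)) (isCharacter_one (G := S))
  refine ⟨k, ?_⟩
  rw [classInner_def] at hk
  simp only [map_one, mul_one] at hk
  have hcard : Nat.card S = 8 := by
    rw [Subgroup.card_map_of_injective H.emb_injective, S₀_card]
  rw [hcard, inv_mul_eq_iff_eq_mul₀ (by norm_num)] at hk
  have hval : ∀ x : S, (χ : G → ℂ) x =
      if x = 1 then (deg χ : ℂ) else (H.T χ : ℂ) := fun x => by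
    split_ifs with hx
    · rw [hx]; exact (deg_spec χ).1
    · obtain ⟨p, hp, hpx⟩ := x.2
      have h1 : p ≠ 1 := fun h => hx (Subtype.ext (by simp [← hpx, h]))
      obtain ⟨c, hc⟩ := isConj_iff.1 (H.isConj_invol p (inS_mul p hp p hp).2.2 h1)
      rw [← hpx, ← hc, irr_isClassFunction χ, H.T_spec]
  simp only [hval, Finset.sum_ite, Finset.sum_const, nsmul_eq_mul, Finset.filter_eq',
    Finset.mem_univ, if_true, Finset.card_singleton, Finset.filter_ne', Finset.card_erase_of_mem,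
    Finset.card_univ, ← Nat.card_eq_fintype_card, hcard] at hk
  norm_num at hk
  exact_mod_cast hk

theorem abs_T_lt [IsSimpleGroup G] {χ : Cfsg.IrrCharacter G} (hχ : χ ≠ trivIrr G) :
    H.T χ * H.T χ < (deg χ : ℤ) * deg χ := by
  have hle : ‖(χ : G → ℂ) H.t‖ ≤ ‖(χ : G → ℂ) 1‖ := char_norm_le (irr_isCharacter χ) _
  rw [H.T_spec, (deg_spec χ).1, Complex.norm_intCast, Complex.norm_natCast] at hle
  have hle' : |H.T χ| ≤ (deg χ : ℤ) := by exact_mod_cast hle
  rcases lt_or_eq_of_le hle' with h | h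
  · calc H.T χ * H.T χ = |H.T χ| * |H.T χ| := (abs_mul_abs_self _).symm
      _ < _ := mul_self_lt_mul_self (abs_nonneg _) h
  exfalso
  obtain ⟨n, ρ, hρ, hval⟩ := χ.2
  have hd : (χ : G → ℂ) 1 = (Module.finrank ℂ (Fin n → ℂ) : ℂ) := by rw [← hval, ρ.char_one]
  have hnorm : ‖ρ.character H.t‖ = (Module.finrank ℂ (Fin n → ℂ) : ℝ) := by
    rw [hval, H.T_spec, Complex.norm_intCast]
    rw [(deg_spec χ).1] at hd
    have hd' : deg χ = Module.finrank ℂ (Fin n → ℂ) := by exact_mod_cast hd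
    rw [← hd']
    exact_mod_cast h
  obtain ⟨ω, hω⟩ := rep_apply_eq_smul_of_norm_eq ρ H.t hnorm
  have hcomm : ∀ g : G, ρ (H.t * g) = ρ (g * H.t) := fun g => by
    rw [map_mul, map_mul, hω]; ext v; simp
  let ker : Subgroup G := ρ.asGroupHom.ker
  have hker : ∀ g, H.t * g * (g * H.t)⁻¹ ∈ ker := fun g => by
    rw [MonoidHom.mem_ker, map_mul, map_inv, mul_inv_eq_one]
    exact Units.ext (hcomm g)
  rcases (inferInstance : ker.Normal).eq_bot_or_eq_top with hb | hb
  · have hc : H.t ∈ Subgroup.center G := Subgroup.mem_center_iff.2 fun g => by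
      have := hker g
      rw [hb, Subgroup.mem_bot, mul_inv_eq_one] at this
      exact this.symm
    refine H.isolated_false fun g _ => ?_
    rw [Subgroup.mem_center_iff.1 hc g, mul_inv_cancel_right]
  · have h1 : ∀ g, (χ : G → ℂ) g = (χ : G → ℂ) 1 := fun g => by
      have hg : ρ g = ρ 1 := by
        have := (MonoidHom.mem_ker (f := ρ.asGroupHom)).1 (hb ▸ Subgroup.mem_top g : g ∈ ker)
        have h' := congrArg Units.val this
        simpa [Representation.asGroupHom] using h'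
      rw [← hval]; simp only [Representation.character, hg]
    apply hχ
    have hn := classInner_isIrr_self χ.2
    rw [classInner_def] at hn
    simp only [h1, Finset.sum_const, Finset.card_univ, ← Nat.card_eq_fintype_card, nsmul_eq_mul,
      (deg_spec χ).1, Complex.conj_natCast] at hn
    rw [inv_mul_cancel_left₀ natCard_ne_zero] at hn
    have h1d : deg χ = 1 := by
      have : (deg χ * deg χ : ℕ) = 1 := by exact_mod_cast hn
      exact Nat.eq_one_of_mul_eq_one_right this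
    apply Subtype.ext
    funext g
    rw [h1 g, (deg_spec χ).1, h1d, trivIrr_coe]
    norm_num

theorem deg_sq_lt {χ : Cfsg.IrrCharacter G} (hχ : χ ≠ trivIrr G) :
    deg χ * deg χ < Nat.card G := by
  classical
  have h := sum_degree_sq (G := G)
  simp only [(deg_spec _).1] at h
  have h' : ∑ ψ : Cfsg.IrrCharacter G, deg ψ ^ 2 = Nat.card G := by exact_mod_cast h
  rw [← h', ← Finset.add_sum_erase _ _ (Finset.mem_univ χ), sq]
  have : deg (trivIrr G) ^ 2 ≤ ∑ ψ ∈ Finset.univ.erase χ, deg ψ ^ 2 :=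
    Finset.single_le_sum (f := fun ψ => deg ψ ^ 2) (fun _ _ => Nat.zero_le _)
      (Finset.mem_erase.2 ⟨fun e => hχ e.symm, Finset.mem_univ _⟩)
  have h0 : 0 < deg (trivIrr G) ^ 2 := pow_pos (deg_spec _).2.1 2
  omega

theorem fi_galois : ∀ (i : Fin 4) (k : Alt.K), Alt.fi (Equiv.swap (1 : Fin 4) 2 i) k =
    ((Alt.fi i k).1 - (Alt.fi i k).2, -(Alt.fi i k).2) := by decide +kernel

/-- The Galois conjugate exchanging the two classes of elements of order five. -/
theorem exists_galois (χ : Cfsg.IrrCharacter G) : ∃ χ' : Cfsg.IrrCharacter G,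
    deg χ' = deg χ ∧ ∀ i, H.m χ' (Equiv.swap (1 : Fin 4) 2 i) = H.m χ i := by
  obtain ⟨σ, hσ⟩ := BlockCharsA.AlgAut.exists_aut Alt.ζ_prim
    (ZMod.unitOfCoprime 2 (by norm_num) : (ZMod 5)ˣ)
  have hσ' : σ Alt.ζ = Alt.ζ ^ 2 := hσ
  have hσz : σ Alt.z = -1 - Alt.z := by
    unfold Alt.z
    rw [map_add, map_pow, hσ']
    linear_combination Alt.ζ ^ 3 * Alt.ζ_prim.pow_eq_one + Alt.ζ_sum
  let χ' : Cfsg.IrrCharacter G := ⟨_, BlockCharsA.PConjugate.isIrr_aut σ χ.2⟩
  have hval : ∀ x, (χ' : G → ℂ) x = σ ((χ : G → ℂ) x) := fun _ => rfl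
  refine ⟨χ', ?_, fun i => ?_⟩
  · have := (deg_spec χ').1
    rw [hval, (deg_spec χ).1, map_natCast] at this
    exact_mod_cast this.symm
  · have h : (H.m χ' (Equiv.swap (1 : Fin 4) 2 i) : ℂ) = σ (H.m χ i : ℂ) := by
      rw [H.m_spec_C, H.m_spec_C, map_mul, map_inv₀, map_ofNat, map_sum]
      congr 1
      refine Finset.sum_congr rfl fun k _ => ?_
      rw [map_mul, ← char_inv (irr_isCharacter χ'), ← char_inv (irr_isCharacter χ), hval]
      congr 1
      simp only [Alt.f, Alt.val, fi_galois, map_add, map_mul, map_intCast, hσz]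
      push_cast
      ring
    rw [map_intCast] at h
    exact_mod_cast h

end Cfsg.Agent.J1Order.Setup
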