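import Mathlib
import Cfsg.Agent.Lib.J1Order.Chars

/-!
Parity of the exceptional characters without fixed vectors under a Sylow 2-subgroup.
-/

set_option autoImplicit false
set_option linter.all false
set_option maxRecDepth 100000

namespace Cfsg.Agent.J1Order

open Cfsg.Agent.Characters Cfsg.Agent.J1Order.Alt
open scoped ComplexConjugate

namespace Alt

theorem sum_two (F : Multiplicative (ZMod 2) → ℂ) :
    ∑ b, F b = F 1 + F (Multiplicative.ofAdd 1) := by
  rw [show (Finset.univ : Finset (Multiplicative (ZMod 2))) = {1, Multiplicative.ofAdd 1} by decide,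
    Finset.sum_pair (by decide)]

/-- Grouping a sum over `A₅` by classes. -/
theorem sum_by_class (a : A5 → ℤ) (n : Fin 5 → ℤ)
    (h : ∀ c, (∑ g ∈ Finset.univ.filter (fun g => cls g = c), a g) = n c) (t : Fin 5 → ℂ) :
    ∑ g : A5, (a g : ℂ) * t (cls g) = ∑ c, (n c : ℂ) * t c := by
  rw [← Finset.sum_fiberwise Finset.univ cls]
  refine Finset.sum_congr rfl fun c _ => ?_
  rw [← h c, Int.cast_sum, Finset.sum_mul]
  exact Finset.sum_congr rfl fun g hg => by rw [(Finset.mem_filter.1 hg).2]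

theorem count_all : ∀ c : Fin 5, (∑ g ∈ Finset.univ.filter (fun g : A5 => cls g = c), (1 : ℤ)) =
    ![1, 15, 20, 12, 12] c := by decide +kernel

theorem count_A4 : ∀ c : Fin 5,
    (∑ g ∈ Finset.univ.filter (fun g : A5 => cls g = c), (if g ∈ A4 then (1 : ℤ) else 0)) =
    ![1, 3, 8, 0, 0] c := by decide +kernel

theorem count_three : ∀ c : Fin 5,
    (∑ g ∈ Finset.univ.filter (fun g : A5 => cls g = c), ((ψi 1 g).1 + (ψi 2 g).1 - 2)) =
    ![6, -30, 0, 12, 12] c := by decide +kernel

theorem three_snd : ∀ g : A5, (ψi 1 g).2 + (ψi 2 g).2 = 0 := by decide +kernel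

theorem S₀_le_A4 : ∀ k : K, inS k = true → k.2 ∈ A4 := by decide +kernel

theorem rep_one : rep 1 * rep 1 = 1 ∧ rep 1 ≠ 1 := by decide +kernel

theorem rep_invol : ∀ b : Multiplicative (ZMod 2),
    (b, rep 1) * (b, rep 1) = (1 : K) ∧ (b, rep 1) ≠ (1 : K) := by decide +kernel

theorem isGen_three (i : Fin 4) :
    Cfsg.IsGeneralizedCharacter K (fun k : K => ψ i k.2 - 1) :=
  isGen_sub (isGen_comp (MonoidHom.snd (Multiplicative (ZMod 2)) A5) (isGen_ψ i))
    (isGen_of_isCharacter isCharacter_one)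

end Alt

/-- No fixed vectors of a subgroup: none of a larger one. -/
theorem sum_char_eq_zero {K : Type*} [Group K] [Fintype K] {χ : K → ℂ}
    (hχ : Cfsg.IsCharacter K χ) {S M : Subgroup K} [DecidablePred (· ∈ S)] [DecidablePred (· ∈ M)]
    (hle : S ≤ M) (h : ∑ s : S, χ s = 0) : ∑ k : K, (if k ∈ M then χ k else 0) = 0 := by
  obtain ⟨n, ρ, rfl⟩ := hχ
  haveI : Invertible (Nat.card S : ℂ) := invertibleOfNonzero natCard_ne_zero
  haveI : Invertible (Nat.card M : ℂ) := invertibleOfNonzero natCard_ne_zero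
  have h1 := Representation.card_inv_mul_sum_char_eq_finrank
    (ρ := (ρ.comp S.subtype : Representation ℂ S (Fin n → ℂ)))
  have h2 := Representation.card_inv_mul_sum_char_eq_finrank
    (ρ := (ρ.comp M.subtype : Representation ℂ M (Fin n → ℂ)))
  have hS : ∑ g : S, Representation.character
      (ρ.comp S.subtype : Representation ℂ S (Fin n → ℂ)) g = 0 := h
  rw [hS, mul_zero] at h1
  have hbot := Submodule.finrank_eq_zero.1 (Nat.cast_eq_zero.1 h1.symm)
  have hmono : Representation.invariants (ρ.comp M.subtype : Representation ℂ M (Fin n → ℂ)) = ⊥ := by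
    refine eq_bot_iff.2 fun v hv => ?_
    rw [← hbot]
    rw [Representation.mem_invariants] at hv ⊢
    exact fun s => hv ⟨s, hle s.2⟩
  rw [hmono, finrank_bot, Nat.cast_zero, mul_eq_zero, or_iff_right (inv_ne_zero natCard_ne_zero)]
    at h2
  rw [← Finset.sum_filter]
  refine Eq.trans ?_ h2
  exact Finset.sum_subtype (Finset.univ.filter fun k => k ∈ M) (by simp) _

namespace Setup

universe u

variable {G : Type u} [Group G] [Fintype G] (H : Setup G)

/-- A rational character without fixed vectors in a Sylow 2-subgroup has an even value at `t`. -/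
theorem parity [IsSimpleGroup G] [Fintype (Cfsg.IrrCharacter G)] (χ : Cfsg.IrrCharacter G)
    (hd : (deg χ : ℤ) + 7 * H.T χ = 0)
    (hfix : ∀ χ' : Cfsg.IrrCharacter G, deg χ' = deg χ →
      (∀ i, H.m χ' (Equiv.swap (1 : Fin 4) 2 i) = H.m χ i) → χ' = χ) :
    H.T χ % 2 = 0 := by
  classical
  let v : Alt.K → ℂ := fun k => (χ : G → ℂ) (H.emb k)
  have hv : Cfsg.IsCharacter Alt.K v := isCharacter_comp H.emb (irr_isCharacter χ)
  have hvcl : ∀ x k, v (x * k * x⁻¹) = v k := fun x k => by
    simp only [v, map_mul, map_inv]; exact irr_isClassFunction χ _ _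
  have hinv : ∀ k : Alt.K, k * k = 1 → k ≠ 1 → v k = (H.T χ : ℂ) := fun k hk hk1 => by
    obtain ⟨c, hc⟩ := isConj_iff.1 (H.isConj_invol k hk hk1)
    show (χ : G → ℂ) (H.emb k) = _
    rw [← hc, irr_isClassFunction χ, H.T_spec]
  have hone : v 1 = (deg χ : ℂ) := by simp only [v, map_one]; exact (deg_spec χ).1
  have hd' : (deg χ : ℂ) = -7 * (H.T χ : ℂ) := by
    have : ((deg χ : ℤ) : ℂ) = ((-7 * H.T χ : ℤ) : ℂ) := by congr 1; omega
    push_cast at this; exact this
  have hS : ∑ s : S₀, v s = 0 := by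
    have hval : ∀ s : S₀, v s = if s = 1 then (deg χ : ℂ) else (H.T χ : ℂ) := fun s => by
      split_ifs with hs
      · rw [hs]; exact hone
      · exact hinv _ (inS_mul _ s.2 _ s.2).2.2 (fun h => hs (Subtype.ext h))
    simp only [hval, Finset.sum_ite, Finset.sum_const, nsmul_eq_mul, Finset.filter_eq',
      Finset.mem_univ, if_true, Finset.card_singleton, Finset.filter_ne',
      Finset.card_erase_of_mem, Finset.card_univ, ← Nat.card_eq_fintype_card, S₀_card, hd']
    push_cast
    ring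
  let W : Alt.A5 → ℂ := fun g => conj (v (1, g)) + conj (v (Multiplicative.ofAdd 1, g))
  have hW : Cfsg.IsClassFunction Alt.A5 W := fun a b => by
    have e : ∀ c : Multiplicative (ZMod 2), v (c, b * a * b⁻¹) = v (c, a) := fun c => by
      rw [← hvcl (1, b) (c, a)]; simp
    simp only [W, e]
  set t : Fin 5 → ℂ := fun c => W (Alt.rep c)
  have hWt : ∀ g, W g = t (Alt.cls g) := Alt.eq_of_rep hW t fun _ => rfl
  have ht0 : t 0 = -6 * (H.T χ : ℂ) := by
    show conj (v 1) + conj (v Alt.τ) = _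
    rw [hone, hinv _ K_pow_fifteen.2.1 K_pow_fifteen.2.2, Complex.conj_natCast, map_intCast,
      hd']
    ring
  have ht1 : t 1 = 2 * (H.T χ : ℂ) := by
    show conj (v (1, Alt.rep 1)) + conj (v (Multiplicative.ofAdd 1, Alt.rep 1)) = _
    rw [hinv _ (Alt.rep_invol _).1 (Alt.rep_invol _).2,
      hinv _ (Alt.rep_invol _).1 (Alt.rep_invol _).2, map_intCast]
    ring
  have hsum : ∀ (a : Alt.A5 → ℤ) (n : Fin 5 → ℤ),
      (∀ c, (∑ g ∈ Finset.univ.filter (fun g => Alt.cls g = c), a g) = n c) →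
      ∑ k : Alt.K, (a k.2 : ℂ) * conj (v k) = ∑ c, (n c : ℂ) * t c := by
    intro a n h
    rw [← Alt.sum_by_class a n h t, Fintype.sum_prod_type, Finset.sum_comm]
    refine Finset.sum_congr rfl fun g _ => ?_
    rw [Alt.sum_two, ← hWt, mul_add]
  have hK : ∑ c, ((![1, 15, 20, 12, 12] c : ℤ) : ℂ) * t c = 0 := by
    rw [← hsum (fun _ => 1) _ Alt.count_all]
    have h := sum_char_eq_zero hv (le_top : S₀ ≤ ⊤) hS
    simp only [Subgroup.mem_top, if_true] at h
    simpa using congrArg conj h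
  have hM : ∑ c, ((![1, 3, 8, 0, 0] c : ℤ) : ℂ) * t c = 0 := by
    rw [← hsum (fun g => if g ∈ Alt.A4 then 1 else 0) _ Alt.count_A4]
    haveI : DecidablePred (· ∈ Alt.A4.comap (MonoidHom.snd (Multiplicative (ZMod 2)) Alt.A5)) :=
      fun k => inferInstanceAs (Decidable (k.2 ∈ Alt.A4))
    have h := sum_char_eq_zero hv (M := Alt.A4.comap (MonoidHom.snd (Multiplicative (ZMod 2)) Alt.A5))
      (fun k hk => Alt.S₀_le_A4 k hk) hS
    have h' := congrArg conj h
    rw [map_zero, map_sum] at h'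
    rw [← h']
    refine Finset.sum_congr rfl fun k _ => ?_
    simp only [Subgroup.mem_comap, MonoidHom.coe_snd]
    split_ifs with hk <;> simp
  obtain ⟨n1, hn1⟩ := classInner_gen_int (Alt.isGen_three 1) (isGen_of_isCharacter hv)
  obtain ⟨n2, hn2⟩ := classInner_gen_int (Alt.isGen_three 2) (isGen_of_isCharacter hv)
  rw [classInner_def, K_card] at hn1 hn2
  have hgal : n2 = n1 := by
    obtain ⟨σ, hσ⟩ := BlockCharsA.AlgAut.exists_aut Alt.ζ_prim
      (ZMod.unitOfCoprime 2 (by norm_num) : (ZMod 5)ˣ)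
    have hσ' : σ Alt.ζ = Alt.ζ ^ 2 := hσ
    have hσz : σ Alt.z = -1 - Alt.z := by
      unfold Alt.z
      rw [map_add, map_pow, hσ']
      linear_combination Alt.ζ ^ 3 * Alt.ζ_prim.pow_eq_one + Alt.ζ_sum
    let χ' : Cfsg.IrrCharacter G := ⟨_, BlockCharsA.PConjugate.isIrr_aut σ χ.2⟩
    have hval : ∀ x, (χ' : G → ℂ) x = σ ((χ : G → ℂ) x) := fun _ => rfl
    have hχ' : χ' = χ := by
      refine hfix χ' ?_ fun i => ?_
      · have := (deg_spec χ').1
        rw [hval, (deg_spec χ).1, map_natCast] at this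
        exact_mod_cast this.symm
      · have h : (H.m χ' (Equiv.swap (1 : Fin 4) 2 i) : ℂ) = σ (H.m χ i : ℂ) := by
          rw [H.m_spec_C, H.m_spec_C, map_mul, map_inv₀, map_ofNat, map_sum]
          congr 1
          refine Finset.sum_congr rfl fun k _ => ?_
          rw [map_mul, ← char_inv (irr_isCharacter χ'), ← char_inv (irr_isCharacter χ), hval]
          congr 1
          simp only [Alt.f, Alt.val, fi_galois, map_add, map_mul, map_intCast, hσz]
          push_cast
          ring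
        rw [map_intCast] at h
        exact_mod_cast h
    have h : σ (n1 : ℂ) = (n2 : ℂ) := by
      rw [← hn1, ← hn2, map_mul, map_inv₀, map_natCast, map_sum]
      congr 1
      refine Finset.sum_congr rfl fun k _ => ?_
      rw [map_mul, ← char_inv hv]
      congr 1
      · rw [show Alt.ψ 2 k.2 = Alt.val ((Alt.ψi 1 k.2).1 - (Alt.ψi 1 k.2).2) (-(Alt.ψi 1 k.2).2) from rfl]
        simp only [Alt.ψ, Alt.val, map_sub, map_one, map_add, map_mul, map_intCast, hσz]
        push_cast
        ring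
      · show σ ((χ : G → ℂ) (H.emb k⁻¹)) = _
        rw [← hval, hχ']
    rw [map_intCast] at h
    exact_mod_cast h.symm
  have key : (120 : ℂ) * ((n1 : ℂ) + n2) = -120 * (H.T χ : ℂ) := by
    rw [← hn1, ← hn2]
    have h3 : ∀ k : Alt.K, (Alt.ψ 1 k.2 - 1) * conj (v k) + (Alt.ψ 2 k.2 - 1) * conj (v k) =
        (((Alt.ψi 1 k.2).1 + (Alt.ψi 2 k.2).1 - 2 : ℤ) : ℂ) * conj (v k) := fun k => by
      have h0 := congrArg (Int.cast : ℤ → ℂ) (Alt.three_snd k.2)
      simp only [Alt.ψ, Alt.val]
      push_cast at h0 ⊢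
      linear_combination (Alt.z * conj (v k)) * h0
    rw [← mul_add, ← Finset.sum_add_distrib, Finset.sum_congr rfl (fun k _ => h3 k),
      hsum _ _ Alt.count_three]
    simp only [Fin.sum_univ_five, ht0, ht1] at hK hM ⊢
    simp at hK hM ⊢
    linear_combination hK - (5 / 2 : ℂ) * hM
  rw [hgal] at key
  have h : 2 * n1 = -H.T χ := by
    have : ((2 * n1 : ℤ) : ℂ) = ((-H.T χ : ℤ) : ℂ) := by push_cast; linear_combination key / 120
    exact_mod_cast this
  omega

end Setup

end Cfsg.Agent.J1Order
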