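import Mathlib

/-!
Finite scans for the exceptional degrees for a group with the involution centralizer of the first
Janko group: only the orders `175560` and `189000` survive.

`D` stands for a signed degree and `T` for the signed value at the involution.
-/

set_option autoImplicit false
set_option linter.all false

namespace Cfsg.Agent.J1Order.Dio

/-- The constraints on a signed degree. -/
def Adm (g D T : ℤ) : Prop :=
  (D - T) % 8 = 0 ∧ 0 ≤ D * (D + 7 * T) ∧ T * T < D * D ∧ D ∣ g ∧ D * D < g

instance (g D T : ℤ) : Decidable (Adm g D T) := by unfold Adm; infer_instance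

/-- The numbers `r + 8 i` of absolute value below `N`. -/
def cands (r : ℤ) (N : ℕ) : List ℤ :=
  ((List.range (N / 4 + 3)).map fun i : ℕ => r + 8 * ((i : ℤ) - (N / 8 + 1 : ℕ))).filter
    fun d => decide (d.natAbs < N)

theorem mem_cands {r d : ℤ} {N : ℕ} (hr : 0 ≤ r ∧ r < 8) (hd : (d - r) % 8 = 0)
    (hN : d.natAbs < N) : d ∈ cands r N := by
  refine List.mem_filter.2 ⟨List.mem_map.2 ⟨((d - r) / 8 + (N / 8 + 1 : ℕ)).toNat, ?_, ?_⟩,
    by simpa using hN⟩
  · rw [List.mem_range]; omega
  · omega

/-- The order forced by the first pair of equations, if it is an admissible one. -/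
def checkA (R P : ℤ) : Bool :=
  let P' := -1 - R - P
  let E := (R + 1) * (P * P' - 9 * R)
  let N := 144000 * R * P * P'
  if E = 0 ∨ N % E ≠ 0 then true else
  let g := N / E
  if g % 240 ≠ 120 ∨ g = 175560 ∨ g = 189000 ∨ ¬ Adm g R 1 ∨ ¬ Adm g P 3 ∨ ¬ Adm g P' 3 then true
  else (cands 3 949).all fun D =>
    let D' := -1 - R - D
    ¬ (Adm g D (-5) ∧ Adm g D' (-5) ∧
      g * ((R + 1) * (D * D' - 25 * R)) = 86400 * R * D * D')

theorem scanA : ((cands 1 949).all fun R => (cands 3 949).all fun P => checkA R P) = true := by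
  decide +kernel

/-- The test of the second configuration. -/
def checkB (k : ℤ) : Bool :=
  let Q := 4 * k + 2
  if k = 0 ∨ k % 2 = 0 ∨ 45 * ((2 * k + 1) * (8 * k + 5)) % (k * k) ≠ 0 then true else
  let g := 120 * (45 * ((2 * k + 1) * (8 * k + 5)) / (k * k))
  if ¬ Adm g Q (-2) ∨ ¬ Adm g (-1 - 2 * Q) (-5) then true else
  decide (g ≤ 160000) && (cands 3 400).all fun P =>
    let S := -1 - Q - P
    ¬ (Adm g P 3 ∧ Adm g S 6 ∧ g * (9 * Q * S + 4 * P * S + 36 * P * Q + P * Q * S) = 144000 * P * Q * S)

theorem scanB : ((List.range 451).all fun i => checkB ((i : ℤ) - 225)) = true := by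
  decide +kernel

end Cfsg.Agent.J1Order.Dio
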