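import Mathlib
import Cfsg.Agent.Lib.J1Order.DioScan

/-!
Arithmetic of the exceptional degrees for a group with the involution centralizer of the first
Janko group: only the orders `175560` and `189000` survive.
-/

set_option autoImplicit false
set_option linter.all false

namespace Cfsg.Agent.J1Order.Dio

theorem bound {g R P P' : ℤ} (hR : Adm g R 1) (hP : Adm g P 3) (hP' : Adm g P' 3)
    (hs : R + P + P' = -1)
    (he : g * ((R + 1) * (P * P' - 9 * R)) = 144000 * R * P * P') : g ≤ 900000 := by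
  obtain ⟨hR8, hR7, hR1, hRd, hR2⟩ := hR
  obtain ⟨hP8, hP7, hP1, hPd, hP2⟩ := hP
  obtain ⟨hP8', hP7', hP1', hPd', hP2'⟩ := hP'
  have hg : 0 < g := lt_of_le_of_lt (mul_self_nonneg R) hR2
  have hneg : ∀ {d : ℤ}, (d - 3) % 8 = 0 → 0 ≤ d * (d + 7 * 3) → d < 0 → d ≤ -21 := by
    intro d _ h h0; by_contra hc; nlinarith only [h, h0, hc]
  have hpos : ∀ {d : ℤ}, (d - 3) % 8 = 0 → 9 < d * d → 0 < d → 11 ≤ d := by
    intro d h h9 h0
    by_contra hc
    have : d = 3 := by omega
    subst this; norm_num at h9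
  have hRneg : R < 0 → R ≤ -7 := fun h => by by_contra hc; nlinarith only [hR7, h, hc]
  have hRpos : 0 < R → 9 ≤ R := fun h => by
    by_contra hc
    have : R = 1 := by omega
    subst this; norm_num at hR1
  have hR0 : R ≠ 0 := fun h => by subst h; norm_num at hR1
  have hP0 : P ≠ 0 := fun h => by subst h; norm_num at hP1
  have hP0' : P' ≠ 0 := fun h => by subst h; norm_num at hP1'
  wlog hle : P ≤ P' generalizing P P'
  · refine this ?_ ?_ hP8' hP7' hP1' hPd' hP2' hP8 hP7 hP1 hPd hP2 hP0' hP0 (by omega)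
    · linarith
    · linear_combination he
  by_contra hbig
  push Not at hbig
  rcases lt_or_gt_of_ne hR0 with hRn | hRp
  · have hR' := hRneg hRn
    rcases lt_or_gt_of_ne hP0 with hPn | hPp
    · have hP21 := hneg hP8 hP7 hPn
      have hx : 0 ≤ (-P - 21) * (P' - (-R + 20)) := mul_nonneg (by omega) (by omega)
      have hprod : P * P' ≤ -21 * (-R + 20) := by nlinarith only [hx, hP21, hR', hs]
      have hE : 0 < (R + 1) * (P * P' - 9 * R) :=
        mul_pos_of_neg_of_neg (by omega) (by linarith)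
      have hgE : 900000 * ((R + 1) * (P * P' - 9 * R)) < 144000 * R * P * P' := by
        rw [← he]; exact mul_lt_mul_of_pos_right hbig hE
      have h1 := mul_le_mul_of_nonneg_right hprod (show (0 : ℤ) ≤ -21 * R - 25 by omega)
      nlinarith only [hgE, h1, hR', mul_nonneg (show (0 : ℤ) ≤ -R - 7 by omega) (show (0 : ℤ) ≤ -R - 7 by omega)]
    · have hP11 : 0 < P * P' := mul_pos hPp (by omega)
      have hE : (R + 1) * (P * P' - 9 * R) < 0 :=
        mul_neg_of_neg_of_pos (by omega) (by linarith)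
      have hgE : 144000 * R * P * P' < 900000 * ((R + 1) * (P * P' - 9 * R)) := by
        rw [← he]; exact mul_lt_mul_of_neg_right hbig hE
      have h1 := mul_nonneg hP11.le (show (0 : ℤ) ≤ -21 * R - 25 by omega)
      have h2 := mul_nonneg (show (0 : ℤ) ≤ -R by omega) (show (0 : ℤ) ≤ -R - 1 by omega)
      nlinarith only [hgE, h1, h2]
  · have hR' := hRpos hRp
    rcases lt_or_gt_of_ne hP0' with hPn' | hPp'
    · have hP21 := hneg hP8 hP7 (by omega)
      have hP21' := hneg hP8' hP7' hPn'
      have hR41 : 41 ≤ R := by omega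
      have hx : 0 ≤ (-P - 21) * (-P' - 21) := mul_nonneg (by omega) (by omega)
      have hprod : 21 * (R - 20) ≤ P * P' := by nlinarith only [hx, hs]
      have hE : 0 < (R + 1) * (P * P' - 9 * R) := mul_pos (by omega) (by linarith)
      have hgE : 900000 * ((R + 1) * (P * P' - 9 * R)) < 144000 * R * P * P' := by
        rw [← he]; exact mul_lt_mul_of_pos_right hbig hE
      have h1 := mul_le_mul_of_nonneg_right hprod (show (0 : ℤ) ≤ 21 * R + 25 by omega)
      nlinarith only [hgE, h1, hR41, mul_nonneg (show (0 : ℤ) ≤ R - 41 by omega) (show (0 : ℤ) ≤ R - 41 by omega)]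
    · have hPn : P < 0 := by omega
      have hPP : P * P' < 0 := mul_neg_of_neg_of_pos hPn hPp'
      have hE : (R + 1) * (P * P' - 9 * R) < 0 := mul_neg_of_pos_of_neg (by omega) (by linarith)
      have hgE : 144000 * R * P * P' < 900000 * ((R + 1) * (P * P' - 9 * R)) := by
        rw [← he]; exact mul_lt_mul_of_neg_right hbig hE
      have h1 := mul_nonneg (show (0 : ℤ) ≤ -(P * P') by linarith) (show (0 : ℤ) ≤ 21 * R + 25 by omega)
      have h2 := mul_nonneg (show (0 : ℤ) ≤ R by omega) (show (0 : ℤ) ≤ R + 1 by omega)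
      nlinarith only [hgE, h1, h2]

theorem natAbs_lt {g D T : ℤ} {N : ℕ} (h : Adm g D T) (hg : g ≤ (N : ℤ) * N) : D.natAbs < N := by
  have h2 := h.2.2.2.2
  have : (D.natAbs : ℤ) * D.natAbs = D * D := Int.natAbs_mul_self
  by_contra hc
  push Not at hc
  have : (N : ℤ) ≤ (D.natAbs : ℤ) := by exact_mod_cast hc
  nlinarith

/-- The configuration with a character common to the three exceptional sets. -/
theorem caseA {g : ℕ} (hodd : g % 240 = 120) {R P P' D D' : ℤ}
    (hR : Adm g R 1) (hP : Adm g P 3) (hP' : Adm g P' 3) (hD : Adm g D (-5)) (hD' : Adm g D' (-5))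
    (hs : R + P + P' = -1) (hs' : R + D + D' = -1)
    (he : (g : ℤ) * ((R + 1) * (P * P' - 9 * R)) = 144000 * R * P * P')
    (he' : (g : ℤ) * ((R + 1) * (D * D' - 25 * R)) = 86400 * R * D * D') :
    g = 175560 ∨ g = 189000 := by
  have hb := bound hR hP hP' hs he
  have hN : (g : ℤ) ≤ ((949 : ℕ) : ℤ) * (949 : ℕ) := by push_cast; omega
  have hR0 : R ≠ 0 := fun h => by have := hR.2.2.1; subst h; norm_num at this
  have hP0 : P ≠ 0 := fun h => by have := hP.2.2.1; subst h; norm_num at this
  have hP0' : P' ≠ 0 := fun h => by have := hP'.2.2.1; subst h; norm_num at this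
  have hE : (R + 1) * (P * P' - 9 * R) ≠ 0 := by
    intro h
    rw [h, mul_zero] at he
    have : (144000 : ℤ) * R * P * P' ≠ 0 := by simp [hR0, hP0, hP0']
    exact this he.symm
  have h1 := scanA
  rw [List.all_eq_true] at h1
  have h2 := h1 R (mem_cands (by norm_num) (by have := hR.1; omega) (natAbs_lt hR hN))
  rw [List.all_eq_true] at h2
  have h3 := h2 P (mem_cands (by norm_num) (by have := hP.1; omega) (natAbs_lt hP hN))
  obtain rfl : P' = -1 - R - P := by omega
  obtain rfl : D' = -1 - R - D := by omega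
  unfold checkA at h3
  simp only [] at h3
  have hdiv : 144000 * R * P * (-1 - R - P) / ((R + 1) * (P * (-1 - R - P) - 9 * R)) = (g : ℤ) := by
    rw [← he]; exact Int.mul_ediv_cancel _ hE
  have hmod : 144000 * R * P * (-1 - R - P) % ((R + 1) * (P * (-1 - R - P) - 9 * R)) = 0 := by
    rw [← he]; exact Int.mul_emod_left _ _
  rw [if_neg (by simp [hE, hmod]), hdiv] at h3
  by_contra hne
  push Not at hne
  rw [if_neg (by
    rintro (h | h | h | h | h | h)
    · omega
    · exact hne.1 (by omega)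
    · exact hne.2 (by omega)
    · exact h hR
    · exact h hP
    · exact h hP')] at h3
  rw [List.all_eq_true] at h3
  have h4 := h3 D (mem_cands (by norm_num) (by have := hD.1; omega) (natAbs_lt hD hN))
  simp only [decide_eq_true_eq, decide_not, Bool.not_eq_true', decide_eq_false_iff_not] at h4
  exact h4 ⟨hD, hD', he'⟩

/-- The triangle configuration. -/
theorem caseB {g : ℕ} (hodd : g % 240 = 120) {P Q S D : ℤ}
    (hP : Adm g P 3) (hQ : Adm g Q (-2)) (hS : Adm g S 6) (hD : Adm g D (-5))
    (hs : P + Q + S = -1) (hs' : D + 2 * Q = -1)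
    (he : (g : ℤ) * (9 * Q * S + 4 * P * S + 36 * P * Q + P * Q * S) = 144000 * P * Q * S)
    (he' : (g : ℤ) * (25 * Q + 8 * D + D * Q) = 86400 * D * Q) : False := by
  obtain rfl : D = -1 - 2 * Q := by omega
  have hQ8 := hQ.1
  obtain ⟨k, rfl⟩ : ∃ k, Q = 4 * k + 2 := ⟨(Q - 2) / 4, by omega⟩
  have hk : k % 2 = 1 := by omega
  obtain ⟨h, hh⟩ : ∃ h : ℤ, (g : ℤ) = 120 * h := ⟨(g : ℤ) / 120, by omega⟩
  have key : k * k * h = 45 * ((2 * k + 1) * (8 * k + 5)) := by
    rw [hh] at he'
    nlinarith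
  have hdvd : k ∣ 225 := ⟨k * h - 720 * k - 810, by linear_combination (-1 : ℤ) * key⟩
  have hk225 : k.natAbs ≤ 225 :=
    Nat.le_of_dvd (by norm_num) (by have := Int.natAbs_dvd_natAbs.2 hdvd; simpa using this)
  have h1 := scanB
  rw [List.all_eq_true] at h1
  have h2 := h1 (k + 225).toNat (List.mem_range.2 (by omega))
  rw [show ((k + 225).toNat : ℤ) - 225 = k by omega] at h2
  unfold checkB at h2
  simp only [] at h2
  have hkk : k * k ≠ 0 := by
    have : k ≠ 0 := by omega
    simp [this]
  have hmod : 45 * ((2 * k + 1) * (8 * k + 5)) % (k * k) = 0 := by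
    rw [← key]; exact Int.mul_emod_right _ _
  have hdiv : 120 * (45 * ((2 * k + 1) * (8 * k + 5)) / (k * k)) = (g : ℤ) := by
    rw [← key, Int.mul_ediv_cancel_left _ hkk, hh]
  rw [if_neg (by
    rintro (h' | h' | h')
    · omega
    · omega
    · exact h' hmod), hdiv, if_neg (by
    rintro (h' | h')
    · exact h' hQ
    · exact h' hD), Bool.and_eq_true, decide_eq_true_eq, List.all_eq_true] at h2
  have hN : (g : ℤ) ≤ ((400 : ℕ) : ℤ) * (400 : ℕ) := by push_cast; linarith [h2.1]
  have h3 := h2.2 P (mem_cands (by norm_num) (by have := hP.1; omega) (natAbs_lt hP hN))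
  simp only [decide_eq_true_eq, decide_not, Bool.not_eq_true', decide_eq_false_iff_not] at h3
  obtain rfl : S = -1 - (4 * k + 2) - P := by omega
  exact h3 ⟨hP, hS, he⟩

end Cfsg.Agent.J1Order.Dio
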