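import Mathlib
import Cfsg.Agent.Lib.J1Order.Dio

/-!
The exceptional degrees in the spurious case of order `189000`.
-/

set_option autoImplicit false
set_option linter.all false

namespace Cfsg.Agent.J1Order.Dio

/-- The constraints at order `189000`. -/
def checkC (R D : ℤ) : Bool :=
  if Adm 189000 R 1 ∧ Adm 189000 D (-5) then
    let D' := -1 - R - D
    if Adm 189000 D' (-5) ∧ 189000 * ((R + 1) * (D * D' - 25 * R)) = 86400 * R * D * D' then
      decide (R = -15 ∧ ((D = -21 ∧ D' = 35) ∨ (D = 35 ∧ D' = -21)))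
    else true
  else true

theorem scanC : ((cands 1 435).all fun R => (cands 3 435).all fun D => checkC R D) = true := by
  decide +kernel

theorem caseLast {g : ℕ} (hg : g = 189000) {R D D' : ℤ} (hR : Adm g R 1) (hD : Adm g D (-5))
    (hD' : Adm g D' (-5)) (hs : R + D + D' = -1)
    (he : (g : ℤ) * ((R + 1) * (D * D' - 25 * R)) = 86400 * R * D * D') :
    R = -15 ∧ ((D = -21 ∧ D' = 35) ∨ (D = 35 ∧ D' = -21)) := by
  subst hg
  have hN : ((189000 : ℕ) : ℤ) ≤ ((435 : ℕ) : ℤ) * (435 : ℕ) := by norm_num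
  have h1 := scanC
  rw [List.all_eq_true] at h1
  have h2 := h1 R (mem_cands (by norm_num) (by have := hR.1; omega) (natAbs_lt hR hN))
  rw [List.all_eq_true] at h2
  have h3 := h2 D (mem_cands (by norm_num) (by have := hD.1; omega) (natAbs_lt hD hN))
  obtain rfl : D' = -1 - R - D := by omega
  unfold checkC at h3
  simp only [Nat.cast_ofNat] at hR hD hD' he h3 ⊢
  rw [if_pos ⟨hR, hD⟩] at h3
  rw [if_pos ⟨hD', he⟩] at h3
  exact of_decide_eq_true h3

end Cfsg.Agent.J1Order.Dio
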