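import Mathlib
import Cfsg.Agent.Lib.J1Order.DioLast

/-!
The combinatorics of the four integral vectors of exceptional multiplicities.
-/

set_option autoImplicit false
set_option linter.all false

namespace Cfsg.Agent.J1Order.Lattice

variable {ι : Type*} [Fintype ι] [DecidableEq ι]

/-- The support. -/
def supp (v : ι → ℤ) : Finset ι := Finset.univ.filter fun x => v x ≠ 0

theorem mem_supp {v : ι → ℤ} {x : ι} : x ∈ supp v ↔ v x ≠ 0 := by simp [supp]

theorem unit_of_norm {v : ι → ℤ} {N : ℤ} (hN : N ≤ 3) (h : ∑ x, v x * v x = N) {x : ι}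
    (hx : v x ≠ 0) : v x = 1 ∨ v x = -1 := by
  have h1 : v x * v x ≤ N := h ▸ Finset.single_le_sum (f := fun y => v y * v y)
    (fun y _ => mul_self_nonneg _) (Finset.mem_univ x)
  have h2 : v x ≤ 1 ∧ -1 ≤ v x := ⟨by nlinarith, by nlinarith⟩
  omega

theorem card_supp {v : ι → ℤ} {N : ℤ} (hN : N ≤ 3) (h : ∑ x, v x * v x = N) :
    ((supp v).card : ℤ) = N := by
  rw [← h, Finset.card_eq_sum_ones, Nat.cast_sum, ← Finset.sum_filter_of_ne (p := fun x => v x ≠ 0)
    (f := fun x => v x * v x) (fun x _ hx h0 => hx (by rw [h0, mul_zero]))]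
  refine Finset.sum_congr rfl fun x hx => ?_
  rcases unit_of_norm hN h (mem_supp.1 hx) with e | e <;> simp [e]

theorem sum_eq_supp (v : ι → ℤ) {M : Type*} [AddCommMonoid M] (F : ι → M)
    (hF : ∀ x, v x = 0 → F x = 0) : ∑ x, F x = ∑ x ∈ supp v, F x :=
  (Finset.sum_subset (Finset.subset_univ _) fun x _ hx => hF x (by simpa [supp] using hx)).symm

/-- Two of the vectors share exactly one character, with the same sign. -/
theorem pair {v w n : ι → ℤ} (hn : ∀ x, 0 < n x) (hv : ∑ x, v x * v x = 3)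
    (hw : ∑ x, w x * w x = 3) (hvw : ∑ x, v x * w x = 1)
    (hdeg : ∑ x, v x * n x = ∑ x, w x * n x) :
    ∃ r, v r ≠ 0 ∧ v r = w r ∧ ∀ x, v x ≠ 0 → w x ≠ 0 → x = r := by
  have hc : (supp v).card = 3 := by exact_mod_cast card_supp le_rfl hv
  have hc' : (supp w).card = 3 := by exact_mod_cast card_supp le_rfl hw
  have hu : ∀ x, x ∈ supp v → v x = 1 ∨ v x = -1 := fun x hx => unit_of_norm le_rfl hv (mem_supp.1 hx)
  have hu' : ∀ x, x ∈ supp w → w x = 1 ∨ w x = -1 := fun x hx => unit_of_norm le_rfl hw (mem_supp.1 hx)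
  set I := supp v ∩ supp w with hI
  have hsum : ∑ x ∈ I, v x * w x = 1 := by
    rw [← hvw]
    refine Finset.sum_subset (Finset.subset_univ _) fun x _ hx => ?_
    by_contra h
    exact hx (Finset.mem_inter.2 ⟨mem_supp.2 (left_ne_zero_of_mul h), mem_supp.2 (right_ne_zero_of_mul h)⟩)
  have hI3 : I.card ≤ 3 := hc ▸ Finset.card_le_card Finset.inter_subset_left
  have hIu : ∀ x ∈ I, (v x = 1 ∨ v x = -1) ∧ (w x = 1 ∨ w x = -1) := fun x hx =>
    ⟨hu x (Finset.mem_inter.1 hx).1, hu' x (Finset.mem_inter.1 hx).2⟩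
  interval_cases h : I.card
  · rw [Finset.card_eq_zero.1 h] at hsum; simp at hsum
  · obtain ⟨r, hr⟩ := Finset.card_eq_one.1 h
    rw [hr, Finset.sum_singleton] at hsum
    have hrI : r ∈ I := hr ▸ Finset.mem_singleton_self r
    refine ⟨r, mem_supp.1 (Finset.mem_inter.1 hrI).1, ?_, fun x hx hx' => ?_⟩
    · rcases hIu r hrI with ⟨e | e, e' | e'⟩ <;> rw [e, e'] at hsum ⊢ <;> norm_num at hsum
    · have : x ∈ I := Finset.mem_inter.2 ⟨mem_supp.2 hx, mem_supp.2 hx'⟩
      rw [hr] at this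
      exact Finset.mem_singleton.1 this
  · obtain ⟨a, b, hab, hr⟩ := Finset.card_eq_two.1 h
    rw [hr, Finset.sum_pair hab] at hsum
    rcases hIu a (by simp [hr]) with ⟨e | e, e' | e'⟩ <;>
      rcases hIu b (by simp [hr]) with ⟨f | f, f' | f'⟩ <;>
      rw [e, e', f, f'] at hsum <;> norm_num at hsum
  · exfalso
    obtain ⟨a, b, c, hab, hac, hbc, hr⟩ := Finset.card_eq_three.1 h
    have hIv : I = supp v := Finset.eq_of_subset_of_card_le Finset.inter_subset_left (by omega)
    have hIw : I = supp w := Finset.eq_of_subset_of_card_le Finset.inter_subset_right (by omega)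
    rw [sum_eq_supp v _ (fun x hx => by simp [hx]), sum_eq_supp w (fun x => w x * n x)
      (fun x hx => by simp [hx]), ← hIv, ← hIw] at hdeg
    rw [hr] at hsum hdeg
    simp only [Finset.sum_insert, Finset.mem_insert, Finset.mem_singleton, hab, hac, hbc, or_self,
      not_false_iff, Finset.sum_singleton] at hsum hdeg
    have := hn a; have := hn b; have := hn c
    rcases hIu a (by simp [hr]) with ⟨e | e, e' | e'⟩ <;>
      rcases hIu b (by simp [hr]) with ⟨f | f, f' | f'⟩ <;>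
      rcases hIu c (by simp [hr]) with ⟨k | k, k' | k'⟩ <;>
      simp only [e, e', f, f', k, k'] at hsum hdeg <;> omega

/-- The numerical data of the nontrivial irreducible characters. -/
structure Data (ι : Type*) [Fintype ι] (g : ℕ) where
  n : ι → ℤ
  m : ι → Fin 4 → ℤ
  T : ι → ℤ
  T_eq : ∀ x, T x = 4 * m x 0 + 3 * m x 1 + 3 * m x 2 - 5 * m x 3
  n_pos : ∀ x, 0 < n x
  adm : ∀ x, (n x - T x) % 8 = 0 ∧ 0 ≤ n x + 7 * T x ∧ T x * T x < n x * n x ∧ n x ∣ (g : ℤ) ∧
    n x * n x < (g : ℤ)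
  norm0 : ∑ x, m x 0 * m x 0 = 2
  norm : ∀ i, i ≠ 0 → ∑ x, m x i * m x i = 3
  cross0 : ∀ i, i ≠ 0 → ∑ x, m x 0 * m x i = 0
  cross : ∀ i j, i ≠ 0 → j ≠ 0 → i ≠ j → ∑ x, m x i * m x j = 1
  deg0 : ∑ x, m x 0 * n x = 0
  deg : ∀ i, i ≠ 0 → ∑ x, m x i * n x = -1
  recip0 : ∑ x, (m x 0 : ℚ) * (T x : ℚ) ^ 2 / (n x : ℚ) = 0
  recip1 : (g : ℚ) * ∑ x, (m x 1 : ℚ) * (T x : ℚ) ^ 2 / (n x : ℚ) = 144000 - g
  recip3 : (g : ℚ) * ∑ x, (m x 3 : ℚ) * (T x : ℚ) ^ 2 / (n x : ℚ) = 86400 - g
  galois : ∀ x, ∃ y, n y = n x ∧ m y 1 = m x 2 ∧ m y 2 = m x 1 ∧ m y 3 = m x 3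
  even : ∀ x, m x 3 ≠ 0 → (∀ y, n y = n x → m y 3 ≠ 0 → y = x) → n x + 7 * T x = 0 → T x % 2 = 0

namespace Data

variable {g : ℕ} (d : Data ι g)

theorem shared {i j : Fin 4} (hi : i ≠ 0) (hj : j ≠ 0) (hij : i ≠ j) :
    ∃ r, d.m r i ≠ 0 ∧ d.m r i = d.m r j ∧ ∀ x, d.m x i ≠ 0 → d.m x j ≠ 0 → x = r :=
  pair (v := fun x => d.m x i) (w := fun x => d.m x j) d.n_pos (d.norm i hi) (d.norm j hj)
    (d.cross i j hi hj hij) ((d.deg i hi).trans (d.deg j hj).symm)

/-- The first vector is disjoint from the others. -/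
theorem disjoint {x : ι} {i : Fin 4} (hi : i ≠ 0) (hx : d.m x i ≠ 0) : d.m x 0 = 0 := by
  by_contra h0
  have hc : (supp fun y => d.m y 0).card = 2 := by
    exact_mod_cast card_supp (by norm_num) d.norm0
  obtain ⟨X, Y, hXY, hs⟩ := Finset.card_eq_two.1 hc
  have hu : ∀ y, d.m y 0 ≠ 0 → d.m y 0 = 1 ∨ d.m y 0 = -1 := fun y hy =>
    unit_of_norm (by norm_num) d.norm0 hy
  have hX : d.m X 0 ≠ 0 := mem_supp (v := fun y => d.m y 0).1 (by simp [hs])
  have hY : d.m Y 0 ≠ 0 := mem_supp (v := fun y => d.m y 0).1 (by simp [hs])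
  have key : ∀ F : ι → ℤ, ∑ y, d.m y 0 * F y = d.m X 0 * F X + d.m Y 0 * F Y := fun F => by
    rw [sum_eq_supp (fun y => d.m y 0) _ (fun y hy => by simp [hy]), hs, Finset.sum_pair hXY]
  have hd := d.deg0
  rw [key] at hd
  have hnX := d.n_pos X
  have hnY := d.n_pos Y
  have hsign : d.m Y 0 = -d.m X 0 ∧ d.n X = d.n Y := by
    rcases hu X hX with e | e <;> rcases hu Y hY with f | f <;> rw [e, f] at hd ⊢ <;> omega
  have hk : ∀ j, j ≠ 0 → d.m X j = d.m Y j := fun j hj => by
    have h := d.cross0 j hj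
    rw [key, hsign.1] at h
    have h' : d.m X 0 * (d.m X j - d.m Y j) = 0 := by linarith
    exact sub_eq_zero.1 ((mul_eq_zero.1 h').resolve_left hX)
  have hr := d.recip0
  rw [sum_eq_supp (fun y => d.m y 0) _ (fun y hy => by simp [hy]), hs, Finset.sum_pair hXY,
    hsign.1, hsign.2] at hr
  have hn0 : (d.n Y : ℚ) ≠ 0 := by exact_mod_cast hnY.ne'
  have hm0 : (d.m X 0 : ℚ) ≠ 0 := by exact_mod_cast hX
  have hT : d.T X * d.T X = d.T Y * d.T Y := by
    push_cast at hr
    field_simp at hr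
    rw [mul_zero] at hr
    have h' := (mul_eq_zero.1 hr).resolve_left hm0
    have : (d.T X : ℚ) * d.T X = d.T Y * d.T Y := by linear_combination h'
    exact_mod_cast this
  rw [d.T_eq, d.T_eq, hsign.1, hk 1 (by decide), hk 2 (by decide), hk 3 (by decide)] at hT
  have hb : ∀ j, j ≠ 0 → d.m Y j ≤ 1 ∧ -1 ≤ d.m Y j := fun j hj => by
    by_cases hz : d.m Y j = 0
    · omega
    · rcases unit_of_norm le_rfl (d.norm j hj) hz with e | e <;> omega
  have hL : d.m X 0 * (3 * d.m Y 1 + 3 * d.m Y 2 - 5 * d.m Y 3) = 0 := by linarith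
  have hL' := (mul_eq_zero.1 hL).resolve_left hX
  have h1 := hb 1 (by decide)
  have h2 := hb 2 (by decide)
  have h3 := hb 3 (by decide)
  have hm3 : d.m Y 3 = 0 := by omega
  have hm12 : d.m Y 1 = -d.m Y 2 := by omega
  have hm1 : d.m Y 1 = 0 := by
    by_contra hne
    obtain ⟨r, -, -, huniq⟩ := d.shared (i := 1) (j := 2) (by decide) (by decide) (by decide)
    have hne2 : d.m Y 2 ≠ 0 := by omega
    exact hXY ((huniq X (by rw [hk 1 (by decide)]; exact hne)
      (by rw [hk 2 (by decide)]; exact hne2)).trans (huniq Y hne hne2).symm)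
  have hxm : x ∈ supp fun y => d.m y 0 := mem_supp.2 h0
  rw [hs, Finset.mem_insert, Finset.mem_singleton] at hxm
  have hall : d.m Y i = 0 := by
    fin_cases i
    · exact absurd rfl hi
    · exact hm1
    · show d.m Y 2 = 0; omega
    · exact hm3
  rcases hxm with rfl | rfl
  · exact hx ((hk i hi).trans hall)
  · exact hx hall

theorem adm_signed (x : ι) {v : ℤ} (hv : v = 1 ∨ v = -1) :
    Dio.Adm g (v * d.n x) (v * d.T x) := by
  obtain ⟨h1, h2, h3, h4, h5⟩ := d.adm x
  have hn := d.n_pos x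
  rcases hv with rfl | rfl
  · exact ⟨by omega, by rw [one_mul, one_mul]; positivity, by simpa using h3, by simpa using h4,
      by simpa using h5⟩
  · refine ⟨by omega, ?_, by simpa using h3, ?_, by simpa using h5⟩
    · have := mul_nonneg hn.le h2; linarith
    · rw [neg_one_mul, neg_dvd]; exact h4

theorem three {i : Fin 4} (hi : i ≠ 0) {r : ι} (hr : d.m r i ≠ 0) :
    ∃ p q, p ≠ r ∧ q ≠ r ∧ p ≠ q ∧ d.m p i ≠ 0 ∧ d.m q i ≠ 0 ∧
      supp (fun y => d.m y i) = {r, p, q} := by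
  have hc : (supp fun y => d.m y i).card = 3 := by exact_mod_cast card_supp le_rfl (d.norm i hi)
  have hrm : r ∈ supp fun y => d.m y i := mem_supp.2 hr
  have hc2 : ((supp fun y => d.m y i).erase r).card = 2 := by
    rw [Finset.card_erase_of_mem hrm, hc]
  obtain ⟨p, q, hpq, he⟩ := Finset.card_eq_two.1 hc2
  have hp : p ∈ (supp fun y => d.m y i).erase r := by simp [he]
  have hq : q ∈ (supp fun y => d.m y i).erase r := by simp [he]
  rw [Finset.mem_erase, mem_supp] at hp hq
  exact ⟨p, q, hp.1, hq.1, hpq, hp.2, hq.2, by rw [← he, Finset.insert_erase hrm]⟩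

/-- The two equations of one vector, in signed degrees. -/
theorem equations {i : Fin 4} (hi : i ≠ 0) {r p q : ι} (hpr : p ≠ r) (hqr : q ≠ r) (hpq : p ≠ q)
    (hs : supp (fun y => d.m y i) = {r, p, q}) {K a b c : ℤ}
    (hrec : (g : ℚ) * ∑ x, (d.m x i : ℚ) * (d.T x : ℚ) ^ 2 / (d.n x : ℚ) = (K : ℚ) - g)
    (ha : d.m r i * d.T r = a) (hb : d.m p i * d.T p = b) (hc : d.m q i * d.T q = c) :
    Dio.Adm g (d.m r i * d.n r) a ∧ Dio.Adm g (d.m p i * d.n p) b ∧
    Dio.Adm g (d.m q i * d.n q) c ∧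
    d.m r i * d.n r + d.m p i * d.n p + d.m q i * d.n q = -1 ∧
    (g : ℤ) * (a * a * (d.m p i * d.n p) * (d.m q i * d.n q) +
      b * b * (d.m r i * d.n r) * (d.m q i * d.n q) + c * c * (d.m r i * d.n r) * (d.m p i * d.n p) +
      (d.m r i * d.n r) * (d.m p i * d.n p) * (d.m q i * d.n q)) =
      K * (d.m r i * d.n r) * (d.m p i * d.n p) * (d.m q i * d.n q) := by
  have hu : ∀ y, y ∈ ({r, p, q} : Finset ι) → d.m y i = 1 ∨ d.m y i = -1 := fun y hy =>
    unit_of_norm (v := fun y => d.m y i) le_rfl (d.norm i hi)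
      ((mem_supp (v := fun z => d.m z i)).1 (by rw [hs]; exact hy))
  have hur := hu r (by simp); have hup := hu p (by simp); have huq := hu q (by simp)
  refine ⟨ha ▸ d.adm_signed r hur, hb ▸ d.adm_signed p hup, hc ▸ d.adm_signed q huq, ?_, ?_⟩
  · have h := d.deg i hi
    rw [sum_eq_supp (fun y => d.m y i) _ (fun y hy => by simp [hy]), hs,
      Finset.sum_insert (by simp [Ne.symm hpr, Ne.symm hqr]), Finset.sum_pair hpq] at h
    linarith
  · rw [sum_eq_supp (fun y => d.m y i) _ (fun y hy => by simp [hy]), hs,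
      Finset.sum_insert (by simp [Ne.symm hpr, Ne.symm hqr]), Finset.sum_pair hpq] at hrec
    have key : ∀ y, (d.m y i = 1 ∨ d.m y i = -1) → (d.m y i : ℚ) * (d.T y : ℚ) ^ 2 / (d.n y : ℚ) =
        ((d.m y i * d.T y : ℤ) : ℚ) * ((d.m y i * d.T y : ℤ) : ℚ) / ((d.m y i * d.n y : ℤ) : ℚ) := by
      intro y hy
      rcases hy with e | e <;> rw [e] <;> push_cast <;> field_simp
    have hne : ∀ y, (d.m y i = 1 ∨ d.m y i = -1) → ((d.m y i * d.n y : ℤ) : ℚ) ≠ 0 := by
      intro y hy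
      have := d.n_pos y
      rcases hy with e | e <;> rw [e] <;> norm_cast <;> omega
    rw [key r hur, key p hup, key q huq, ha, hb, hc] at hrec
    have := hne r hur; have := hne p hup; have := hne q huq
    field_simp at hrec
    rw [← @Int.cast_inj ℚ]
    push_cast at hrec ⊢
    linarith

/-- **The order.** -/
theorem order (d : Data ι g) (hodd : g % 240 = 120) : g = 175560 := by
  have h10 : (1 : Fin 4) ≠ 0 := by decide
  have h20 : (2 : Fin 4) ≠ 0 := by decide
  have h30 : (3 : Fin 4) ≠ 0 := by decide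
  obtain ⟨R, hR1, hR13, hu13⟩ := d.shared h10 h30 (by decide)
  obtain ⟨S, hS1, hS12, hu12⟩ := d.shared h10 h20 (by decide)
  obtain ⟨W, hW2, hW23, hu23⟩ := d.shared h20 h30 (by decide)
  have hR3 : d.m R 3 ≠ 0 := hR13 ▸ hR1
  have hsq : ∀ x i, i ≠ 0 → d.m x i ≠ 0 → d.m x i * d.m x i = 1 := fun x i hi hx => by
    rcases unit_of_norm le_rfl (d.norm i hi) hx with e | e <;> rw [e] <;> rfl
  by_cases hR2 : d.m R 2 = 0
  · exfalso
    -- the triangle
    have hSR : S ≠ R := fun h => by subst h; exact hS1 (hS12.trans hR2)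
    obtain ⟨p, q, hp, hq, hpq, hp1, hq1, hs⟩ := d.three h10 hR1
    have hSmem : S ∈ ({R, p, q} : Finset ι) := hs ▸ mem_supp.2 hS1
    wlog hSq : S = q generalizing p q
    · simp only [Finset.mem_insert, Finset.mem_singleton] at hSmem
      refine this q p hq hp hpq.symm hq1 hp1 (hs.trans ?_) ?_ ?_
      · rw [Finset.pair_comm p q]
      · simp only [Finset.mem_insert, Finset.mem_singleton]; tauto
      · tauto
    subst hSq
    have hp2 : d.m p 2 = 0 := by_contra fun h => hpq (hu12 p hp1 h)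
    have hp3 : d.m p 3 = 0 := by_contra fun h => hp (hu13 p hp1 h)
    have hS3 : d.m S 3 = 0 := by_contra fun h => hSR (hu13 S hS1 h)
    have hWR : W ≠ R := fun h => by subst h; exact hW2 hR2
    obtain ⟨p', q', hp', hq', hpq', hp3', hq3', hs'⟩ := d.three h30 hR3
    have hWmem : W ∈ ({R, p', q'} : Finset ι) := hs' ▸ mem_supp.2 (hW23 ▸ hW2)
    wlog hWq : W = q' generalizing p' q'
    · simp only [Finset.mem_insert, Finset.mem_singleton] at hWmem
      refine this q' p' hq' hp' hpq'.symm hq3' hp3' (hs'.trans ?_) ?_ ?_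
      · rw [Finset.pair_comm p' q']
      · simp only [Finset.mem_insert, Finset.mem_singleton]; tauto
      · tauto
    subst hWq
    have hp'1 : d.m p' 1 = 0 := by_contra fun h => hp' (hu13 p' h hp3')
    have hp'2 : d.m p' 2 = 0 := by_contra fun h => hpq' (hu23 p' h hp3')
    have hW1 : d.m W 1 = 0 := by_contra fun h => hWR (hu13 W h (hW23 ▸ hW2))
    obtain ⟨e1, e2, e3, hsum, heq⟩ := d.equations h10 hp hq hpq hs (K := 144000) (a := -2) (b := 3)
      (c := 6) (by simpa using d.recip1)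
      (by
        have := hsq R 1 h10 hR1
        rw [d.T_eq, d.disjoint h10 hR1, hR2, ← hR13]
        linarith)
      (by
        have := hsq p 1 h10 hp1
        rw [d.T_eq, d.disjoint h10 hp1, hp2, hp3]
        linarith)
      (by
        have := hsq S 1 h10 hS1
        rw [d.T_eq, d.disjoint h10 hS1, ← hS12, hS3]
        linarith)
    obtain ⟨-, f2, -, hsum', heq'⟩ := d.equations h30 hp' hq' hpq' hs' (K := 86400) (a := -2) (b := -5)
      (c := -2) (by simpa using d.recip3)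
      (by
        have := hsq R 3 h30 hR3
        rw [d.T_eq, d.disjoint h30 hR3, hR2, hR13]
        linarith)
      (by
        have := hsq p' 3 h30 hp3'
        rw [d.T_eq, d.disjoint h30 hp3', hp'1, hp'2]
        linarith)
      (by
        have := hsq W 3 h30 hq3'
        rw [d.T_eq, d.disjoint h30 hq3', hW1, hW23]
        linarith)
    obtain ⟨y, hyn, hy1, hy2, hy3⟩ := d.galois R
    obtain rfl : y = W := hu23 y (by rw [hy2]; exact hR1) (by rw [hy3]; exact hR3)
    have hQ : d.m y 3 * d.n y = d.m R 1 * d.n R := by rw [hy3, hyn, hR13]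
    rw [← hR13] at hsum' heq'
    rw [hQ] at hsum' heq'
    refine Dio.caseB hodd e2 e1 e3 f2 (by linarith) (by linarith) (by linear_combination heq) ?_
    have hQ0 : d.m R 1 * d.n R ≠ 0 := mul_ne_zero hR1 (d.n_pos R).ne'
    refine mul_right_cancel₀ hQ0 ?_
    linear_combination heq'
  · have hSR : R = S := hu12 R hR1 hR2
    subst hSR
    have hWR : R = W := hu23 R hR2 hR3
    subst hWR
    obtain ⟨p, q, hp, hq, hpq, hp1, hq1, hs⟩ := d.three h10 hR1
    obtain ⟨p', q', hp', hq', hpq', hp3', hq3', hs'⟩ := d.three h30 hR3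
    have hTR : d.m R 1 * d.T R = 1 := by
      have := hsq R 1 h10 hR1
      rw [d.T_eq, d.disjoint h10 hR1, ← hS12, ← hR13]
      linarith
    have hb : ∀ x, x ≠ R → d.m x 1 ≠ 0 → d.m x 1 * d.T x = 3 := fun x hx h => by
      have := hsq x 1 h10 h
      rw [d.T_eq, d.disjoint h10 h, show d.m x 2 = 0 from by_contra fun h' => hx (hu12 x h h'),
        show d.m x 3 = 0 from by_contra fun h' => hx (hu13 x h h')]
      linarith
    have hd : ∀ x, x ≠ R → d.m x 3 ≠ 0 → d.m x 3 * d.T x = -5 := fun x hx h => by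
      have := hsq x 3 h30 h
      rw [d.T_eq, d.disjoint h30 h, show d.m x 2 = 0 from by_contra fun h' => hx (hu23 x h' h),
        show d.m x 1 = 0 from by_contra fun h' => hx (hu13 x h' h)]
      linarith
    obtain ⟨e1, e2, e3, hsum, heq⟩ := d.equations h10 hp hq hpq hs (K := 144000)
      (by simpa using d.recip1) hTR (hb p hp hp1) (hb q hq hq1)
    obtain ⟨-, f2, f3, hsum', heq'⟩ := d.equations h30 hp' hq' hpq' hs' (K := 86400) (a := 1)
      (by simpa using d.recip3) (by rw [← hR13]; exact hTR) (hd p' hp' hp3') (hd q' hq' hq3')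
    rw [← hR13] at hsum' heq'
    have hA : (g : ℤ) * ((d.m R 1 * d.n R + 1) * ((d.m p' 3 * d.n p') * (d.m q' 3 * d.n q') -
        25 * (d.m R 1 * d.n R))) =
        86400 * (d.m R 1 * d.n R) * (d.m p' 3 * d.n p') * (d.m q' 3 * d.n q') := by
      linear_combination heq' - (g : ℤ) * (25 * (d.m R 1 * d.n R)) * hsum'
    refine (Dio.caseA hodd e1 e2 e3 f2 f3 hsum hsum'
      (by linear_combination heq - (g : ℤ) * (9 * (d.m R 1 * d.n R)) * hsum) hA).resolve_right
      fun hg => ?_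
    obtain ⟨hRv, hpq⟩ := Dio.caseLast hg e1 f2 f3 hsum' hA
    rw [hR13] at hRv
    have hnR : d.n R = 15 := by
      rcases unit_of_norm (v := fun y => d.m y 3) le_rfl (d.norm 3 h30) hR3 with e | e <;>
        · rw [e] at hRv; linarith [d.n_pos R]
    have key : ∀ x z, x ≠ R → d.m x 3 ≠ 0 → d.m x 3 * d.T x = -5 → d.m x 3 * d.n x = 35 →
        d.m z 3 ≠ 0 → d.m z 3 * d.n z = -21 →
        (∀ y, d.m y 3 ≠ 0 → y = R ∨ y = x ∨ y = z) → False := by
      intro x z hxR hx hxT hxn hz hzn hall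
      have hnx : d.n x = 35 ∧ d.T x = -5 := by
        rcases unit_of_norm (v := fun y => d.m y 3) le_rfl (d.norm 3 h30) hx with e | e <;>
          · rw [e] at hxn hxT; have := d.n_pos x; omega
      have hnz : d.n z = 21 := by
        rcases unit_of_norm (v := fun y => d.m y 3) le_rfl (d.norm 3 h30) hz with e | e <;>
          · rw [e] at hzn; have := d.n_pos z; omega
      have := d.even x hx (fun y hy hy3 => by
        rcases hall y hy3 with h | h | h
        · subst h; omega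
        · exact h
        · subst h; omega) (by omega)
      omega
    have hall : ∀ y, d.m y 3 ≠ 0 → y = R ∨ y = p' ∨ y = q' := fun y hy => by
      have : y ∈ ({R, p', q'} : Finset ι) := hs' ▸ mem_supp.2 hy
      simpa using this
    rcases hpq with ⟨h1, h2⟩ | ⟨h1, h2⟩
    · exact key q' p' hq' hq3' (hd q' hq' hq3') h2 hp3' h1 fun y hy => by
        have := hall y hy; tauto
    · exact key p' q' hp' hp3' (hd p' hp' hp3') h1 hq3' h2 hall

end Data

end Cfsg.Agent.J1Order.Lattice
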