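import Mathlib
import Cfsg.Agent.Lib.J1Order.Excl
import Cfsg.Agent.Lib.J1Order.Lattice

/-!
The order of a simple group with involution centralizer `C₂ × A₅`.
-/

set_option autoImplicit false
set_option linter.all false

namespace Cfsg.Agent.J1Order.Setup

open Cfsg.Agent.Characters

universe u

variable {G : Type u} [Group G] [Finite G] [IsSimpleGroup G] (H : Setup G)

include H in
theorem card_eq : Nat.card G = 175560 := by
  classical
  letI : Fintype G := Fintype.ofFinite G
  letI : Fintype (Cfsg.IrrCharacter G) := Fintype.ofFinite _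
  let ι := {χ : Cfsg.IrrCharacter G // χ ≠ trivIrr G}
  have hsplit : ∀ {M : Type} [AddCommMonoid M] (f : Cfsg.IrrCharacter G → M),
      f (trivIrr G) + ∑ x : ι, f x = ∑ χ, f χ := fun f => by
    rw [← Finset.add_sum_erase _ f (Finset.mem_univ (trivIrr G))]
    congr 1
    exact (Finset.sum_subtype _ (by simp) f).symm
  have htd : deg (trivIrr G) = 1 := by
    have := (deg_spec (trivIrr G)).1
    simp only [trivIrr_coe] at this
    exact_mod_cast this.symm
  have htT : H.T (trivIrr G) = 1 := by simp [T, H.m_triv]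
  have hsw : ∀ {χ : Cfsg.IrrCharacter G}, χ ≠ trivIrr G → ∀ {χ' : Cfsg.IrrCharacter G},
      deg χ' = deg χ → χ' ≠ trivIrr G := by
    intro χ hχ χ' hd h
    have h1 : deg χ = 1 := by rw [← hd, h, htd]
    have h2 := H.abs_T_lt hχ
    obtain ⟨k, hk⟩ := H.eight_dvd χ
    rw [h1] at h2 hk
    norm_num at h2
    have hT0 : H.T χ = 0 := by nlinarith [mul_self_nonneg (H.T χ)]
    rw [hT0] at hk
    omega
  have hgram : ∀ i j, ∑ x : ι, H.m x i * H.m x j =
      Alt.gram i j / 120 - (if i = 0 then 0 else 1) * (if j = 0 then 0 else 1) := by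
    intro i j
    have h := hsplit (fun χ => H.m χ i * H.m χ j)
    simp only [H.m_triv] at h
    have h2 := H.sum_gram i j
    rw [← h2, Int.mul_ediv_cancel _ (by norm_num : (120 : ℤ) ≠ 0), ← h]
    ring
  have hdeg : ∀ i, ∑ x : ι, H.m x i * (deg (x : Cfsg.IrrCharacter G) : ℤ) =
      -(if i = 0 then 0 else 1) := by
    intro i
    have h := hsplit (fun χ => H.m χ i * (deg χ : ℤ))
    simp only [H.m_triv, htd] at h
    rw [H.sum_deg i] at h
    push_cast at h
    linarith
  have hrec : ∀ i, (Nat.card G : ℚ) * ∑ x : ι, (H.m x i : ℚ) *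
      (H.T x : ℚ) ^ 2 / ((deg (x : Cfsg.IrrCharacter G) : ℤ) : ℚ) =
      120 * (Alt.pairVal i : ℚ) - (Nat.card G : ℚ) * ((if i = 0 then 0 else 1 : ℤ) : ℚ) := by
    intro i
    have h := hsplit (fun χ => (H.m χ i : ℚ) * (H.T χ : ℚ) ^ 2 / (deg χ : ℚ))
    have h2 := H.sum_recip i
    rw [← h2, ← h, H.m_triv, htT, htd]
    push_cast
    ring
  let d : Lattice.Data ι (Nat.card G) :=
    { n := fun x => (deg (x : Cfsg.IrrCharacter G) : ℤ)
      m := fun x => H.m x
      T := fun x => H.T x
      T_eq := fun x => rfl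
      n_pos := fun x => by exact_mod_cast (deg_spec x.1).2.1
      adm := fun x => by
        obtain ⟨k, hk⟩ := H.eight_dvd x.1
        refine ⟨by omega, by omega, H.abs_T_lt x.2, by exact_mod_cast (deg_spec x.1).2.2, ?_⟩
        exact_mod_cast deg_sq_lt x.2
      norm0 := by rw [hgram]; decide +kernel
      norm := fun i hi => by rw [hgram]; revert i; decide +kernel
      cross0 := fun i hi => by rw [hgram]; revert i; decide +kernel
      cross := fun i j hi hj hij => by rw [hgram]; revert i j; decide +kernel
      deg0 := by rw [hdeg]; rfl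
      deg := fun i hi => by rw [hdeg, if_neg hi]
      recip0 := by
        have h := hrec 0
        simp [Alt.pairVal, Nat.card_pos.ne'] at h
        simpa using h
      recip1 := by rw [hrec]; norm_num [Alt.pairVal]
      recip3 := by
        rw [hrec, if_neg (by decide : (3 : Fin 4) ≠ 0)]; norm_num [Alt.pairVal]
      galois := fun x => by
        obtain ⟨χ', hd, hm⟩ := H.exists_galois x.1
        refine ⟨⟨χ', hsw x.2 hd⟩, by simp only [hd], ?_, ?_, ?_⟩
        · simpa using hm 2
        · simpa using hm 1
        · simpa [Equiv.swap_apply_of_ne_of_ne] using hm 3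
      even := fun x hx huniq h7 => by
        refine H.parity x.1 h7 fun χ' hd hm => ?_
        have h3 := hm 3
        rw [Equiv.swap_apply_of_ne_of_ne (by decide) (by decide)] at h3
        exact congrArg Subtype.val
          (huniq ⟨χ', hsw x.2 hd⟩ (by simp only [hd]) (by simp only [h3]; exact hx)) }
  exact d.order H.card_mod

end Cfsg.Agent.J1Order.Setup
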